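import Mathlib
import Groth.Prelude.Def_SGA3b
import Groth.Agent.Lib.Helper6.MultType.Basic
import Groth.Agent.Lib.Helper6.Isotriv.GroupLike
import Groth.Agent.Lib.Helper6.Isotriv.Orth
import Groth.Agent.Lib.Helper6.Isotriv.Insep
import Groth.Agent.Lib.Helper6.Lift.Amitsur

/-!
# Quasi-isotriviality of groups of multiplicative type and of finite type, part 1:
charts over varying bases and group-like elements of group algebras (helper6)
-/

set_option autoImplicit false
set_option linter.unusedSectionVars false
set_option linter.unusedVariables false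
set_option linter.unusedSimpArgs false
set_option linter.style.haveILetI false
set_option linter.overlappingInstances false
set_option maxHeartbeats 800000
set_option synthInstance.maxHeartbeats 400000

universe u
open TensorProduct SGA3b Coalgebra
open Groth.Agent.Lib.Helper6.MultType Groth.Agent.Lib.Helper6.Isotriv

namespace Groth.Agent.Lib.Helper6.QIso

section Single

variable {S : Type u} [CommRing S] {M : Type u} [CommGroup M]

/-- Over a ring with only trivial idempotents, the group-like elements of a group algebra are the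
elements of the group. -/
theorem exists_single_of_groupLike (hconn : ∀ e : S, IsIdempotentElem e → e = 0 ∨ e = 1)
    {x : MonoidAlgebra S M} (hx : IsGroupLikeElem S x) :
    ∃ m : M, x = MonoidAlgebra.single m 1 := by
  classical
  have hsum : (∑ m ∈ x.coeff.support, x.coeff m) = 1 := by
    have h1 := hx.counit_eq_one
    rw [counit_eq_sum, Finsupp.sum] at h1
    exact h1
  by_cases hne : x.coeff.support.Nonempty
  · obtain ⟨m, hm⟩ := hne
    have hm1 : x.coeff m = 1 := by
      rcases hconn (x.coeff m) (coeff_idem hx m) with h | h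
      · exact absurd h (Finsupp.mem_support_iff.mp hm)
      · exact h
    refine ⟨m, ?_⟩
    apply MonoidAlgebra.coeff_injective
    ext m'
    rw [MonoidAlgebra.coeff_single, Finsupp.single_apply]
    by_cases hmm : m = m'
    · subst hmm
      rw [if_pos rfl, hm1]
    · rw [if_neg hmm]
      have := coeff_orth hx hmm
      rw [hm1, one_mul] at this
      exact this
  · rw [Finset.not_nonempty_iff_eq_empty] at hne
    rw [hne, Finset.sum_empty] at hsum
    haveI : Subsingleton S := subsingleton_of_zero_eq_one hsum
    refine ⟨1, ?_⟩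
    apply MonoidAlgebra.coeff_injective
    ext m'
    exact Subsingleton.elim _ _

lemma single_injective_of_nontrivial [Nontrivial S] {m m' : M}
    (h : (MonoidAlgebra.single m (1 : S)) = MonoidAlgebra.single m' 1) : m = m' := by
  classical
  have h1 := congrArg (fun x => x.coeff m) h
  simp only [MonoidAlgebra.coeff_single, Finsupp.single_apply, if_true] at h1
  by_contra hne
  rw [if_neg (fun h' => hne h'.symm)] at h1
  exact one_ne_zero h1

end Single

section EquivAux

variable {K : Type u} [CommRing K] {X Y : Type u} [CommRing X] [CommRing Y] [Bialgebra K X]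
  [Bialgebra K Y]

lemma bialgEquiv_symm_apply_eq (e : X ≃ₐc[K] Y) {x : Y} {y : X} : e.symm x = y ↔ x = e y :=
  e.toEquiv.symm_apply_eq

lemma bialgEquiv_injective (e : X ≃ₐc[K] Y) {x y : X} (h : e x = e y) : x = y :=
  e.toEquiv.injective h

end EquivAux

section Chart

variable {R : Type u} [CommRing R] {A : Type u} [CommRing A] [HopfAlgebra R A]
variable {R' : Type u} [CommRing R'] [Algebra R R'] {M : Type u} [CommGroup M]
variable (φ : R' ⊗[R] A ≃ₐc[R'] MonoidAlgebra R' M)
variable (S : Type u) [CommRing S] [Algebra R S] [Algebra R' S] [IsScalarTower R R' S]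

/-- The chart `φ` transported to an `R'`-algebra `S`. -/
noncomputable def chartOver : S ⊗[R] A ≃ₐc[S] MonoidAlgebra S M :=
  (cancelBaseChangeBialgEquiv R R' A S).symm.trans
    ((baseChangeBialgEquiv S φ).trans (scalarTensorBialgEquiv R' S M))

/-- The character `m` of the chart `φ`, over the `R'`-algebra `S`. -/
noncomputable def chi (m : M) : S ⊗[R] A :=
  push A (IsScalarTower.toAlgHom R R' S) (φ.symm (MonoidAlgebra.single m 1))

lemma cancel_one_tmul (y : R' ⊗[R] A) :
    cancelBaseChangeBialgEquiv R R' A S ((1 : S) ⊗ₜ[R'] y) =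
      push A (IsScalarTower.toAlgHom R R' S) y := by
  induction y using TensorProduct.induction_on with
  | zero => rw [TensorProduct.tmul_zero, map_zero, map_zero]
  | tmul r a =>
    rw [cancelBaseChangeBialgEquiv_tmul, push_tmul, Algebra.smul_def, mul_one]
    rfl
  | add y z hy hz => rw [TensorProduct.tmul_add, map_add, hy, hz, map_add]

lemma chartOver_chi (m : M) : chartOver φ S (chi φ S m) = MonoidAlgebra.single m 1 := by
  have h1 : (cancelBaseChangeBialgEquiv R R' A S).symm (chi φ S m) =
      (1 : S) ⊗ₜ[R'] (φ.symm (MonoidAlgebra.single m 1)) := by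
    rw [bialgEquiv_symm_apply_eq, cancel_one_tmul]
    rfl
  show scalarTensorBialgEquiv R' S M (baseChangeBialgEquiv S φ
    ((cancelBaseChangeBialgEquiv R R' A S).symm (chi φ S m))) = _
  rw [h1, baseChangeBialgEquiv_tmul, BialgEquiv.apply_symm_apply]
  show MonoidAlgebra.scalarTensorEquiv R' S ((1 : S) ⊗ₜ[R'] MonoidAlgebra.single m 1) = _
  rw [MonoidAlgebra.scalarTensorEquiv_tmul]
  simp

lemma chartOver_symm_single (m : M) :
    (chartOver φ S).symm (MonoidAlgebra.single m 1) = chi φ S m := by
  rw [bialgEquiv_symm_apply_eq, chartOver_chi]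

lemma chi_groupLike (m : M) : IsGroupLikeElem S (chi φ S m) := by
  rw [← chartOver_symm_single]
  exact (MonoidAlgebra.isGroupLikeElem_single_one (R := S) m).map (chartOver φ S).symm

end Chart

section ChartPush

variable {R : Type u} [CommRing R] {A : Type u} [CommRing A] [HopfAlgebra R A]
variable {R' : Type u} [CommRing R'] [Algebra R R'] {M : Type u} [CommGroup M]
variable (φ : R' ⊗[R] A ≃ₐc[R'] MonoidAlgebra R' M)
variable {S₁ : Type u} [CommRing S₁] [Algebra R S₁] [Algebra R' S₁] [IsScalarTower R R' S₁]
variable {S₂ : Type u} [CommRing S₂] [Algebra R S₂] [Algebra R' S₂] [IsScalarTower R R' S₂]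

lemma chi_push (ψ : S₁ →ₐ[R'] S₂) (m : M) :
    push A (ψ.restrictScalars R) (chi φ S₁ m) = chi φ S₂ m := by
  have hcomp : (ψ.restrictScalars R).comp (IsScalarTower.toAlgHom R R' S₁) =
      IsScalarTower.toAlgHom R R' S₂ := by
    apply AlgHom.ext
    intro r
    exact ψ.commutes r
  unfold chi
  rw [← push_comp, hcomp]

lemma chartOver_symm_single' (m : M) (c : S₁) :
    (chartOver φ S₁).symm (MonoidAlgebra.single m c) = c • chi φ S₁ m := by
  have h : (MonoidAlgebra.single m c : MonoidAlgebra S₁ M) = c • MonoidAlgebra.single m 1 := by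
    rw [MonoidAlgebra.smul_single, smul_eq_mul, mul_one]
  rw [h, map_smul, chartOver_symm_single]

lemma chartOver_smul_chi (m : M) (c : S₁) :
    chartOver φ S₁ (c • chi φ S₁ m) = MonoidAlgebra.single m c := by
  rw [map_smul, chartOver_chi, MonoidAlgebra.smul_single, smul_eq_mul, mul_one]

/-- Naturality of the transported chart. -/
lemma chartOver_push (ψ : S₁ →ₐ[R'] S₂) (y : S₁ ⊗[R] A) :
    chartOver φ S₂ (push A (ψ.restrictScalars R) y) =
      MonoidAlgebra.mapRingHom M (ψ : S₁ →+* S₂) (chartOver φ S₁ y) := by
  have key : ∀ z : MonoidAlgebra S₁ M,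
      chartOver φ S₂ (push A (ψ.restrictScalars R) ((chartOver φ S₁).symm z)) =
        MonoidAlgebra.mapRingHom M (ψ : S₁ →+* S₂) z := by
    intro z
    induction z using MonoidAlgebra.induction_linear with
    | zero => simp
    | add x y hx hy => rw [map_add, map_add, map_add, hx, hy, map_add]
    | single m c =>
      rw [chartOver_symm_single', push_smul, chi_push, MonoidAlgebra.mapRingHom_single]
      exact chartOver_smul_chi φ m _
  have := key (chartOver φ S₁ y)
  rw [BialgEquiv.symm_apply_apply] at this
  exact this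

end ChartPush

section Descent

variable {R : Type u} [CommRing R] (A : Type u) [CommRing A] [Bialgebra R A]
variable (L L' : Type u) [CommRing L] [CommRing L'] [Algebra R L] [Algebra R L'] [Algebra L L']
  [IsScalarTower R L L']

/-- the left inclusion `L' → L' ⊗[L] L'` -/
noncomputable def jl : L' →ₐ[R] L' ⊗[L] L' :=
  (Algebra.TensorProduct.includeLeft : L' →ₐ[L] L' ⊗[L] L').restrictScalars R

/-- the right inclusion `L' → L' ⊗[L] L'` -/
noncomputable def jr : L' →ₐ[R] L' ⊗[L] L' :=
  (Algebra.TensorProduct.includeRight : L' →ₐ[L] L' ⊗[L] L').restrictScalars R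

@[simp] lemma jl_apply (c : L') : jl (R := R) L L' c = c ⊗ₜ[L] (1 : L') := rfl
@[simp] lemma jr_apply (c : L') : jr (R := R) L L' c = (1 : L') ⊗ₜ[L] c := rfl

variable {L L'} in
/-- Faithfully flat descent of scalars. -/
lemma exists_algebraMap_eq_of_tmul_eq [Module.FaithfullyFlat L L'] (c : L')
    (h : c ⊗ₜ[L] (1 : L') = (1 : L') ⊗ₜ[L] c) : ∃ l : L, algebraMap L L' l = c := by
  have h1 := congrArg (LinearMap.lTensor L' (TensorProduct.rid L L').symm.toLinearMap) h
  rw [LinearMap.lTensor_tmul, LinearMap.lTensor_tmul] at h1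
  simp only [LinearEquiv.coe_coe, TensorProduct.rid_symm_apply] at h1
  obtain ⟨n, hn⟩ := Lift.exists_of_dA_eq_dB L L' L (c ⊗ₜ[L] (1 : L)) h1.symm
  refine ⟨n, ?_⟩
  have h2 := congrArg (TensorProduct.rid L L') hn
  rw [TensorProduct.rid_tmul, TensorProduct.rid_tmul, one_smul] at h2
  rw [h2, Algebra.algebraMap_eq_smul_one]

/-- Faithfully flat descent of elements of `L' ⊗ A`, for `A` flat over the base. -/
theorem exists_of_push_eq [Module.Flat R A] [Module.FaithfullyFlat L L'] (x : L' ⊗[R] A)
    (hx : push A (jl (R := R) L L') x = push A (jr (R := R) L L') x) :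
    ∃ y : L ⊗[R] A, push A (IsScalarTower.toAlgHom R L L') y = x := by
  have hex : Function.Exact (IsScalarTower.toAlgHom R L L').toLinearMap
      ((jl (R := R) L L').toLinearMap - (jr (R := R) L L').toLinearMap) := by
    intro c
    constructor
    · intro hc
      rw [LinearMap.sub_apply, sub_eq_zero] at hc
      obtain ⟨l, hl⟩ := exists_algebraMap_eq_of_tmul_eq c hc
      exact ⟨l, hl⟩
    · rintro ⟨l, rfl⟩
      rw [LinearMap.sub_apply, sub_eq_zero]
      show (algebraMap L L' l) ⊗ₜ[L] (1 : L') = (1 : L') ⊗ₜ[L] (algebraMap L L' l)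
      rw [Algebra.algebraMap_eq_smul_one, TensorProduct.smul_tmul]
  have hex' := Module.Flat.rTensor_exact A hex
  have e1 : ∀ z : L ⊗[R] A, (IsScalarTower.toAlgHom R L L').toLinearMap.rTensor A z =
      push A (IsScalarTower.toAlgHom R L L') z := by
    intro z
    induction z using TensorProduct.induction_on with
    | zero => simp
    | tmul s a => simp
    | add y z hy hz => rw [map_add, hy, hz, map_add]
  have e2 : ∀ z : L' ⊗[R] A,
      ((jl (R := R) L L').toLinearMap - (jr (R := R) L L').toLinearMap).rTensor A z =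
      push A (jl (R := R) L L') z - push A (jr (R := R) L L') z := by
    intro z
    induction z using TensorProduct.induction_on with
    | zero => simp
    | tmul s a =>
      rw [LinearMap.rTensor_tmul, LinearMap.sub_apply, TensorProduct.sub_tmul, push_tmul, push_tmul]
      rfl
    | add y z hy hz => rw [map_add, hy, hz, map_add, map_add]; abel
  have h0 : ((jl (R := R) L L').toLinearMap - (jr (R := R) L L').toLinearMap).rTensor A x = 0 := by
    rw [e2, hx, sub_self]
  obtain ⟨y, hy⟩ := (hex' x).mp h0
  exact ⟨y, (e1 y).symm.trans hy⟩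

end Descent

end Groth.Agent.Lib.Helper6.QIso
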