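import Mathlib
import Groth.Prelude.Def_SGA3b
import Groth.Agent.Lib.Helper6.QIso.QI1
import Groth.Agent.Lib.Helper6.MultType.PowConv
import Groth.Agent.Lib.Helper6.MultType.Mono
import Groth.Agent.Lib.Helper2.Hopf.CommP1

/-!
# Quasi-isotriviality, part 2: consequences of a chart; the torsion ideals are Hopf ideals
(helper6)
-/

set_option autoImplicit false
set_option linter.unusedSectionVars false
set_option linter.unusedVariables false
set_option linter.unusedSimpArgs false
set_option linter.style.haveILetI false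
set_option linter.overlappingInstances false
set_option maxHeartbeats 800000
set_option synthInstance.maxHeartbeats 400000

universe u
open TensorProduct SGA3b Coalgebra
open Groth.Agent.Lib.Helper6.MultType Groth.Agent.Lib.Helper6.Isotriv

namespace Groth.Agent.Lib.Helper6.QIso

section FromChart

variable {R : Type u} [CommRing R] {A : Type u} [CommRing A] [HopfAlgebra R A]
variable {R' : Type u} [CommRing R'] [Algebra R R'] {M : Type u} [CommGroup M]
variable (φ : R' ⊗[R] A ≃ₐc[R'] MonoidAlgebra R' M)

include φ in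
theorem flat_of_chart [Module.FaithfullyFlat R R'] : Module.Flat R A := by
  haveI : Module.Flat R' (R' ⊗[R] A) :=
    Module.Flat.of_linearEquiv ((φ : R' ⊗[R] A ≃ₐ[R'] MonoidAlgebra R' M).toLinearEquiv)
  exact Module.Flat.of_flat_tensorProduct R A R'

include φ in
theorem isCocomm_of_chart [Module.FaithfullyFlat R R'] : Coalgebra.IsCocomm R A := by
  haveI : Coalgebra.IsCocomm R' (R' ⊗[R] A) :=
    Groth.Agent.Helper2.HopfLib.isCocomm_of_bialgEquiv φ inferInstance
  refine ⟨?_⟩
  refine LinearMap.ext fun a => ?_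
  rw [LinearMap.comp_apply]
  apply Module.FaithfullyFlat.tensorProduct_mk_injective (A := R) (B := R') (A ⊗[R] A)
  exact Groth.Agent.Helper2.CommP.descent R' a

include φ in
theorem fg_of_chart [Nontrivial R'] (hft : Algebra.FiniteType R A) : Group.FG M := by
  haveI := hft
  have h1 : Algebra.FiniteType R' (R' ⊗[R] A) := inferInstance
  have h2 : Algebra.FiniteType R' (MonoidAlgebra R' M) :=
    h1.equiv (φ : R' ⊗[R] A ≃ₐ[R'] MonoidAlgebra R' M)
  exact MonoidAlgebra.finiteType_iff_group_fg.mp h2

theorem finitePresentation_monoidAlgebra (S : Type u) [CommRing S] (hfg : Group.FG M) :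
    Algebra.FinitePresentation S (MonoidAlgebra S M) := by
  haveI : Monoid.FG M := Group.fg_iff_monoid_fg.mp hfg
  haveI h1 : Algebra.FiniteType ℤ (MonoidAlgebra ℤ M) := inferInstance
  haveI h2 : Algebra.FinitePresentation ℤ (MonoidAlgebra ℤ M) :=
    Algebra.FinitePresentation.of_finiteType.mp h1
  have h3 : Algebra.FinitePresentation S (S ⊗[ℤ] MonoidAlgebra ℤ M) :=
    Algebra.FinitePresentation.baseChange S
  exact h3.equiv (MonoidAlgebra.scalarTensorEquiv ℤ S)

include φ in
theorem finitePresentation_of_chart [Module.FaithfullyFlat R R'] (hfg : Group.FG M) :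
    Algebra.FinitePresentation R A := by
  haveI h1 : Algebra.FinitePresentation R' (MonoidAlgebra R' M) :=
    finitePresentation_monoidAlgebra R' hfg
  haveI h2 : Algebra.FinitePresentation R' (R' ⊗[R] A) :=
    h1.equiv (φ : R' ⊗[R] A ≃ₐ[R'] MonoidAlgebra R' M).symm
  exact Algebra.FinitePresentation.of_finitePresentation_tensorProduct_of_faithfullyFlat R'

end FromChart

section TorsHopf

variable {R : Type u} [CommRing R] {A : Type u} [CommRing A] [HopfAlgebra R A]
  [Coalgebra.IsCocomm R A]

/-- The `n`-th power endomorphism of a commutative and cocommutative Hopf algebra, as a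
bialgebra endomorphism. -/
noncomputable def powBialg (n : ℕ) : A →ₐc[R] A :=
  WithConv.ofConv ((WithConv.toConv (BialgHom.id R A)) ^ n)

lemma powBialg_apply (n : ℕ) (a : A) : powBialg (R := R) n a = powConv R A n a := by
  have h := BialgHom.toAlgHom_convPow (WithConv.toConv (BialgHom.id R A)) n
  have h2 := congrArg (fun t : WithConv (A →ₐ[R] A) => t.ofConv a) h
  exact h2

lemma counit_powConv (n : ℕ) (a : A) :
    counit (R := R) (powConv R A n a) = counit (R := R) a := by
  rw [← powBialg_apply]
  exact CoalgHomClass.counit_comp_apply (powBialg (R := R) n) a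

lemma torsionIdeal_le_ker_counit (n : ℕ) :
    torsionIdeal R A n ≤ RingHom.ker (Bialgebra.counitAlgHom R A) := by
  rw [torsionIdeal, Ideal.map_le_iff_le_comap]
  intro a ha
  rw [Ideal.mem_comap, RingHom.mem_ker]
  rw [RingHom.mem_ker] at ha
  show counit (R := R) (powConv R A n a) = 0
  rw [counit_powConv]
  exact ha

lemma mk_powConv (n : ℕ) (a : A) :
    Ideal.Quotient.mk (torsionIdeal R A n) (powConv R A n a) =
      algebraMap R (A ⧸ torsionIdeal R A n) (counit (R := R) a) := by
  have h1 : a - algebraMap R A (counit (R := R) a) ∈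
      RingHom.ker (Bialgebra.counitAlgHom R A) := by
    rw [RingHom.mem_ker, map_sub]
    simp
  have h2 : powConv R A n (a - algebraMap R A (counit (R := R) a)) ∈ torsionIdeal R A n :=
    Ideal.mem_map_of_mem _ h1
  rw [map_sub, AlgHom.commutes] at h2
  rw [(Ideal.Quotient.eq (I := torsionIdeal R A n)).mpr h2]
  rfl

/-- the comultiplication followed by the two projections to `A ⧸ J` -/
noncomputable def PhiJ (n : ℕ) : A →ₐ[R] (A ⧸ torsionIdeal R A n) ⊗[R] (A ⧸ torsionIdeal R A n) :=
  (Algebra.TensorProduct.map (Ideal.Quotient.mkₐ R (torsionIdeal R A n))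
    (Ideal.Quotient.mkₐ R (torsionIdeal R A n))).comp (Bialgebra.comulAlgHom R A)

lemma PhiJ_powConv (n : ℕ) (a : A) (ha : counit (R := R) a = 0) :
    PhiJ (R := R) n (powConv R A n a) = 0 := by
  unfold PhiJ
  rw [AlgHom.comp_apply, Bialgebra.comulAlgHom_apply, ← powBialg_apply,
    ← ((ℛ R a).induced (powBialg (R := R) n)).eq, map_sum]
  have hterm : ∀ i ∈ ((ℛ R a).induced (powBialg (R := R) n)).index,
      (Algebra.TensorProduct.map (Ideal.Quotient.mkₐ R (torsionIdeal R A n))
        (Ideal.Quotient.mkₐ R (torsionIdeal R A n)))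
        (((ℛ R a).induced (powBialg (R := R) n)).left i ⊗ₜ[R]
          ((ℛ R a).induced (powBialg (R := R) n)).right i) =
      (counit (R := R) ((ℛ R a).left i) * counit (R := R) ((ℛ R a).right i)) •
        ((1 : A ⧸ torsionIdeal R A n) ⊗ₜ[R] (1 : A ⧸ torsionIdeal R A n)) := by
    intro i _
    rw [Algebra.TensorProduct.map_tmul]
    simp only [Coalgebra.Repr.induced_left, Coalgebra.Repr.induced_right, Function.comp_apply,
      Ideal.Quotient.mkₐ_eq_mk]
    rw [powBialg_apply, powBialg_apply, mk_powConv, mk_powConv,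
      Algebra.algebraMap_eq_smul_one, Algebra.algebraMap_eq_smul_one, TensorProduct.smul_tmul_smul]
  rw [Finset.sum_congr rfl hterm, ← Finset.sum_smul]
  have hsum : ∑ i ∈ ((ℛ R a).induced (powBialg (R := R) n)).index,
      counit (R := R) ((ℛ R a).left i) * counit (R := R) ((ℛ R a).right i) = 0 := by
    have h1 := congrArg (counit (R := R)) (Coalgebra.sum_counit_smul (ℛ R a))
    rw [map_sum] at h1
    simp only [map_smul, smul_eq_mul] at h1
    rw [ha] at h1
    exact h1
  rw [hsum, zero_smul]

lemma torsionIdeal_le_ker_PhiJ (n : ℕ) :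
    torsionIdeal R A n ≤ RingHom.ker (PhiJ (R := R) (A := A) n) := by
  show Ideal.map (powConv R A n) (RingHom.ker (Bialgebra.counitAlgHom R A)) ≤ _
  rw [Ideal.map_le_iff_le_comap]
  intro a ha
  rw [Ideal.mem_comap, RingHom.mem_ker]
  rw [RingHom.mem_ker] at ha
  exact PhiJ_powConv n a ha

lemma antipode_mem_torsionIdeal (n : ℕ) {x : A} (hx : x ∈ torsionIdeal R A n) :
    HopfAlgebra.antipode R x ∈ torsionIdeal R A n := by
  have h : torsionIdeal R A n ≤ Ideal.comap (HopfAlgebra.antipodeAlgHom R A) (torsionIdeal R A n) := by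
    show Ideal.map (powConv R A n) (RingHom.ker (Bialgebra.counitAlgHom R A)) ≤ _
    rw [Ideal.map_le_iff_le_comap]
    intro a ha
    rw [Ideal.mem_comap, Ideal.mem_comap]
    rw [RingHom.mem_ker] at ha
    show HopfAlgebra.antipode R (powConv R A n a) ∈ _
    rw [← powBialg_apply, ← Groth.Agent.Lib.Helper6.MultType.bialgHom_antipode, powBialg_apply]
    apply Ideal.mem_map_of_mem
    rw [RingHom.mem_ker]
    show counit (R := R) (HopfAlgebra.antipode R a) = 0
    rw [HopfAlgebra.counit_antipode]
    exact ha
  exact h hx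

theorem torsionIdeal_isCoideal (n : ℕ) : ((torsionIdeal R A n).restrictScalars R).IsCoideal := by
  constructor
  · intro x hx
    exact torsionIdeal_le_ker_counit n hx
  · intro x hx
    exact torsionIdeal_le_ker_PhiJ n hx

theorem torsionIdeal_isHopfIdeal (n : ℕ) : (torsionIdeal R A n).IsHopfIdeal R := by
  haveI := torsionIdeal_isCoideal (R := R) (A := A) n
  constructor
  intro x hx
  exact antipode_mem_torsionIdeal n hx

end TorsHopf

end Groth.Agent.Lib.Helper6.QIso
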