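import Mathlib
import Groth.Prelude.Def_SGA3b
import Groth.Agent.Lib.Helper6.QIso.QI2
import Groth.Agent.Lib.Helper6.TorsDense.TD1

/-!
# Quasi-isotriviality, part 3: descent of the characters of a chart from the triviality of one
torsion subgroup (helper6)
-/

set_option autoImplicit false
set_option linter.unusedSectionVars false
set_option linter.unusedVariables false
set_option linter.unusedSimpArgs false
set_option linter.style.haveILetI false
set_option linter.overlappingInstances false
set_option maxHeartbeats 800000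
set_option synthInstance.maxHeartbeats 400000

universe u
open TensorProduct SGA3b Coalgebra
open Groth.Agent.Lib.Helper6.MultType Groth.Agent.Lib.Helper6.Isotriv
open Groth.Agent.Lib.Helper6.TorsDense

namespace Groth.Agent.Lib.Helper6.QIso

section QuotPow

variable {S : Type u} [CommRing S] {M : Type u} [CommGroup M]

/-- the map on group algebras induced by `M → M / Mⁿ` -/
noncomputable def quotPow (n : ℕ) :
    MonoidAlgebra S M →ₐ[S] MonoidAlgebra S (M ⧸ (powMonoidHom n : M →* M).range) :=
  MonoidAlgebra.mapDomainAlgHom S S (QuotientGroup.mk' (powMonoidHom n : M →* M).range)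

lemma quotPow_single (n : ℕ) (m : M) (r : S) :
    quotPow (S := S) n (MonoidAlgebra.single m r) =
      MonoidAlgebra.single (QuotientGroup.mk' (powMonoidHom n : M →* M).range m) r := by
  simp [quotPow]

lemma quotPow_powConv (n : ℕ) (a : MonoidAlgebra S M) :
    quotPow n (powConv S (MonoidAlgebra S M) n a) =
      algebraMap S _ (counit (R := S) a) := by
  induction a using MonoidAlgebra.induction_linear with
  | zero => simp
  | add x y hx hy => rw [map_add, map_add, hx, hy, map_add, map_add]
  | single m r =>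
    rw [powConv_single, quotPow_single, MonoidAlgebra.counit_single, CommSemiring.counit_apply]
    have h1 : QuotientGroup.mk' (powMonoidHom n : M →* M).range (m ^ n) = 1 := by
      rw [← MonoidHom.mem_ker, QuotientGroup.ker_mk']
      exact ⟨m, rfl⟩
    rw [h1]
    rfl

lemma torsionIdeal_le_ker_quotPow (n : ℕ) :
    torsionIdeal S (MonoidAlgebra S M) n ≤ RingHom.ker (quotPow (S := S) (M := M) n) := by
  rw [torsionIdeal, Ideal.map_le_iff_le_comap]
  intro z hz
  rw [RingHom.mem_ker] at hz
  rw [Ideal.mem_comap, RingHom.mem_ker]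
  show quotPow n (powConv S (MonoidAlgebra S M) n z) = 0
  rw [quotPow_powConv]
  have : counit (R := S) z = 0 := hz
  rw [this, map_zero]

lemma coeff_smul_self {ξ : MonoidAlgebra S M} (hξ : IsGroupLikeElem S ξ) (a : M) :
    ξ.coeff a • ξ = MonoidAlgebra.single a (ξ.coeff a) := by
  classical
  apply MonoidAlgebra.coeff_injective
  ext b
  rw [MonoidAlgebra.coeff_smul_apply, smul_eq_mul, MonoidAlgebra.coeff_single,
    Finsupp.single_apply]
  by_cases h : a = b
  · subst h
    rw [if_pos rfl, coeff_idem hξ]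
  · rw [if_neg h, coeff_orth hξ h]

/-- A group-like element of `S[M]` whose image in `S[M/Mⁿ]` is the image of `m`, and all of
whose weights other than `m` have classes different from that of `m`, is `m`. -/
lemma eq_single_of_quotPow_eq (n : ℕ) {ξ : MonoidAlgebra S M} (hξ : IsGroupLikeElem S ξ) (m : M)
    (hq : quotPow n ξ = quotPow n (MonoidAlgebra.single m (1 : S)))
    (hsep : ∀ a, ξ.coeff a ≠ 0 → a ≠ m →
      QuotientGroup.mk' (powMonoidHom n : M →* M).range a ≠
        QuotientGroup.mk' (powMonoidHom n : M →* M).range m) :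
    ξ = MonoidAlgebra.single m 1 := by
  classical
  have hzero : ∀ a, a ≠ m → ξ.coeff a = 0 := by
    intro a ha
    by_contra hne
    have hsep' := hsep a hne ha
    have h1 : quotPow n (ξ.coeff a • ξ) = quotPow n (MonoidAlgebra.single a (ξ.coeff a)) := by
      rw [coeff_smul_self hξ]
    rw [map_smul, hq, quotPow_single, quotPow_single, MonoidAlgebra.smul_single, smul_eq_mul,
      mul_one] at h1
    have h2 := congrArg (fun x => x.coeff
      (QuotientGroup.mk' (powMonoidHom n : M →* M).range a)) h1
    simp only [MonoidAlgebra.coeff_single, Finsupp.single_apply, if_true] at h2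
    rw [if_neg (fun h => hsep' h.symm)] at h2
    exact hne h2.symm
  have hform : ξ = MonoidAlgebra.single m (ξ.coeff m) := by
    apply MonoidAlgebra.coeff_injective
    ext b
    rw [MonoidAlgebra.coeff_single, Finsupp.single_apply]
    by_cases h : m = b
    · subst h
      rw [if_pos rfl]
    · rw [if_neg h, hzero b (fun h' => h h'.symm)]
  have hc := hξ.counit_eq_one
  rw [hform, MonoidAlgebra.counit_single, CommSemiring.counit_apply] at hc
  rw [hform, hc]

end QuotPow

section P2

variable {R : Type u} [CommRing R] {A : Type u} [CommRing A] [HopfAlgebra R A]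
variable {R' : Type u} [CommRing R'] [Algebra R R'] {M : Type u} [CommGroup M]
variable (φ : R' ⊗[R] A ≃ₐc[R'] MonoidAlgebra R' M)

/-- the image of the character `m` under the second projection, read in the first chart -/
noncomputable def xi0 (m : M) : MonoidAlgebra (R' ⊗[R] R') M :=
  chartOver φ (R' ⊗[R] R')
    (push A (Algebra.TensorProduct.includeRight : R' →ₐ[R] R' ⊗[R] R')
      (φ.symm (MonoidAlgebra.single m 1)))

variable (n : ℕ) [(torsionIdeal R A n).IsHopfIdeal R]

/-- base change of the quotient map `A → A ⧸ J_n` -/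
noncomputable def qB (S : Type u) [CommRing S] [Algebra R S] :
    S ⊗[R] A →ₐc[S] S ⊗[R] (A ⧸ torsionIdeal R A n) :=
  Bialgebra.TensorProduct.map (BialgHom.id S S)
    (Bialgebra.Quotient.mkBialgHom (R := R) (torsionIdeal R A n))

lemma qB_tmul (S : Type u) [CommRing S] [Algebra R S] (s : S) (a : A) :
    qB (R := R) (A := A) n S (s ⊗ₜ[R] a) = s ⊗ₜ[R] Ideal.Quotient.mk (torsionIdeal R A n) a := rfl

lemma qB_push {S₁ S₂ : Type u} [CommRing S₁] [CommRing S₂] [Algebra R S₁] [Algebra R S₂]
    (ψ : S₁ →ₐ[R] S₂) (x : S₁ ⊗[R] A) :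
    qB (R := R) (A := A) n S₂ (push A ψ x) =
      push (A ⧸ torsionIdeal R A n) ψ (qB (R := R) (A := A) n S₁ x) := by
  induction x using TensorProduct.induction_on with
  | zero => simp
  | tmul s a => rw [push_tmul, qB_tmul, qB_tmul, push_tmul]
  | add y z hy hz => rw [map_add, map_add, hy, hz, map_add, map_add]

lemma quotPow_chart_eq_zero (S : Type u) [CommRing S] [Algebra R S]
    (ρ : S ⊗[R] A ≃ₐc[S] MonoidAlgebra S M) (x : S ⊗[R] A)
    (hx : qB (R := R) (A := A) n S x = 0) : quotPow n (ρ x) = 0 := by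
  have hx' : x ∈ RingHom.ker (Algebra.TensorProduct.map (AlgHom.id R S)
      (Ideal.Quotient.mkₐ R (torsionIdeal R A n))) := by
    rw [RingHom.mem_ker]
    exact hx
  rw [Algebra.TensorProduct.lTensor_ker _ (Ideal.Quotient.mkₐ_surjective R _)] at hx'
  let Φ : S ⊗[R] A →+* MonoidAlgebra S (M ⧸ (powMonoidHom n : M →* M).range) :=
    ((quotPow (S := S) (M := M) n : _ →+* _)).comp (ρ : S ⊗[R] A →+* MonoidAlgebra S M)
  have hle : Ideal.map (Algebra.TensorProduct.includeRight : A →ₐ[R] S ⊗[R] A)
      (RingHom.ker (Ideal.Quotient.mkₐ R (torsionIdeal R A n))) ≤ RingHom.ker Φ := by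
    rw [Ideal.map_le_iff_le_comap]
    intro a ha
    rw [RingHom.mem_ker, Ideal.Quotient.mkₐ_eq_mk, Ideal.Quotient.eq_zero_iff_mem] at ha
    rw [Ideal.mem_comap, RingHom.mem_ker]
    show quotPow n (ρ ((1 : S) ⊗ₜ[R] a)) = 0
    have h1 := one_tmul_mem_torsionIdeal S n ha
    have h2 := bialgHom_mem_torsionIdeal (ρ : S ⊗[R] A →ₐc[S] MonoidAlgebra S M) n h1
    exact torsionIdeal_le_ker_quotPow n h2
  exact hle hx'

end P2

section Main

variable {R : Type u} [CommRing R] {A : Type u} [CommRing A] [HopfAlgebra R A]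
variable {R' : Type u} [CommRing R'] [Algebra R R'] {M : Type u} [CommGroup M]
variable (φ : R' ⊗[R] A ≃ₐc[R'] MonoidAlgebra R' M)
variable (n : ℕ) [(torsionIdeal R A n).IsHopfIdeal R]
variable (L L' : Type u) [CommRing L] [CommRing L'] [Algebra R L] [Algebra R L'] [Algebra L L']
  [IsScalarTower R L L'] [Algebra R' L'] [IsScalarTower R R' L']

/-- If the `n`-torsion is diagonalisable over `L`, and the weights occurring in the second
projection of the character `m` are separated from `m` modulo `n`, then `m` descends from the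
faithfully flat connected `L`-algebra `L'` to `L`. -/
theorem descends_of_torsion [Module.Flat R A] [Module.FaithfullyFlat L L']
    (hconn : ∀ e : L', IsIdempotentElem e → e = 0 ∨ e = 1)
    (hd : IsDiag L (L ⊗[R] (A ⧸ torsionIdeal R A n))) (m : M)
    (hsep : ∀ a ∈ (xi0 φ m).coeff.support, a ≠ m →
      QuotientGroup.mk' (powMonoidHom n : M →* M).range a ≠
        QuotientGroup.mk' (powMonoidHom n : M →* M).range m) :
    ∃ g : L ⊗[R] A, push A (IsScalarTower.toAlgHom R L L') g = chi φ L' m := by
  obtain ⟨N, _, ⟨eb⟩⟩ := hd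
  -- the image of the character in the torsion quotient comes from `L`
  have hz : IsGroupLikeElem L' (qB (R := R) (A := A) n L' (chi φ L' m)) :=
    (chi_groupLike φ L' m).map (qB (R := R) (A := A) n L')
  obtain ⟨ν, hν⟩ := exists_single_of_groupLike hconn (hz.map (chartOver eb L'))
  have hz' : qB (R := R) (A := A) n L' (chi φ L' m) = chi eb L' ν := by
    rw [← chartOver_symm_single eb L' ν, ← hν, BialgEquiv.symm_apply_apply]
  have hjj : (jl (R := R) L L').comp (IsScalarTower.toAlgHom R L L') =
      (jr (R := R) L L').comp (IsScalarTower.toAlgHom R L L') := by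
    apply AlgHom.ext
    intro l
    show (algebraMap L L' l) ⊗ₜ[L] (1 : L') = (1 : L') ⊗ₜ[L] (algebraMap L L' l)
    rw [Algebra.algebraMap_eq_smul_one, TensorProduct.smul_tmul]
  have hB : push (A ⧸ torsionIdeal R A n) (jl (R := R) L L')
      (qB (R := R) (A := A) n L' (chi φ L' m)) =
      push (A ⧸ torsionIdeal R A n) (jr (R := R) L L')
        (qB (R := R) (A := A) n L' (chi φ L' m)) := by
    rw [hz']
    unfold chi
    rw [← push_comp, ← push_comp, hjj]
  let jl' : L' →ₐ[R'] L' ⊗[L] L' := Algebra.TensorProduct.includeLeft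
  have hjl' : jl'.restrictScalars R = jl (R := R) L L' := AlgHom.ext fun _ => rfl
  have h5 : chartOver φ (L' ⊗[L] L') (push A (jl (R := R) L L') (chi φ L' m)) =
      MonoidAlgebra.single m 1 := by
    have h := chi_push φ jl' m
    rw [hjl'] at h
    rw [h, chartOver_chi]
  let θ : R' ⊗[R] R' →ₐ[R'] L' ⊗[L] L' :=
    Algebra.TensorProduct.productLeftAlgHom (Algebra.ofId R' (L' ⊗[L] L'))
      ((jr (R := R) L L').comp (IsScalarTower.toAlgHom R R' L'))
  have hθ : (θ.restrictScalars R).comp
      (Algebra.TensorProduct.includeRight : R' →ₐ[R] R' ⊗[R] R') =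
      (jr (R := R) L L').comp (IsScalarTower.toAlgHom R R' L') := by
    apply AlgHom.ext
    intro b
    show θ ((1 : R') ⊗ₜ[R] b) = _
    simp [θ]
  have h6 : chartOver φ (L' ⊗[L] L') (push A (jr (R := R) L L') (chi φ L' m)) =
      MonoidAlgebra.mapRingHom M (θ : R' ⊗[R] R' →+* L' ⊗[L] L') (xi0 φ m) := by
    unfold chi xi0
    rw [← push_comp, ← hθ, push_comp, chartOver_push]
  obtain ⟨ξ, hξdef⟩ : ∃ ξ, ξ = chartOver φ (L' ⊗[L] L')
      (push A (jr (R := R) L L') (chi φ L' m)) := ⟨_, rfl⟩
  have hξgl : IsGroupLikeElem (L' ⊗[L] L') ξ := by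
    rw [hξdef]
    exact (push_groupLike A (jr (R := R) L L') (chi_groupLike φ L' m)).map
      (chartOver φ (L' ⊗[L] L'))
  have hq0 : qB (R := R) (A := A) n (L' ⊗[L] L')
      (push A (jr (R := R) L L') (chi φ L' m) - push A (jl (R := R) L L') (chi φ L' m)) = 0 := by
    rw [map_sub, qB_push, qB_push, hB, sub_self]
  have hq1 := quotPow_chart_eq_zero n (L' ⊗[L] L') (chartOver φ (L' ⊗[L] L')) _ hq0
  rw [map_sub, map_sub, sub_eq_zero, h5, ← hξdef] at hq1
  have hξ1 : ξ = MonoidAlgebra.single m 1 := by
    apply eq_single_of_quotPow_eq n hξgl m hq1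
    intro a ha hne
    apply hsep a _ hne
    rw [Finsupp.mem_support_iff]
    intro h0
    apply ha
    rw [hξdef, h6, MonoidAlgebra.coeff_mapRingHom, h0, map_zero]
  have hfin : push A (jl (R := R) L L') (chi φ L' m) =
      push A (jr (R := R) L L') (chi φ L' m) := by
    apply bialgEquiv_injective (chartOver φ (L' ⊗[L] L'))
    rw [h5, ← hξdef, hξ1]
  exact exists_of_push_eq A L L' (chi φ L' m) hfin

end Main

end Groth.Agent.Lib.Helper6.QIso
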