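import Mathlib
import Groth.Prelude.Def_SGA3b
import Groth.Agent.Lib.Helper6.QIso.QI3

/-!
# Quasi-isotriviality, part 4: a chart over `L` from the descent of the characters (helper6)
-/

set_option autoImplicit false
set_option linter.unusedSectionVars false
set_option linter.unusedVariables false
set_option linter.unusedSimpArgs false
set_option linter.style.haveILetI false
set_option linter.overlappingInstances false
set_option maxHeartbeats 800000
set_option synthInstance.maxHeartbeats 400000

universe u
open TensorProduct SGA3b Coalgebra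
open Groth.Agent.Lib.Helper6.MultType Groth.Agent.Lib.Helper6.Isotriv

namespace Groth.Agent.Lib.Helper6.QIso

section ChartL

variable {R : Type u} [CommRing R] {A : Type u} [CommRing A] [HopfAlgebra R A]
variable {R' : Type u} [CommRing R'] [Algebra R R'] {M : Type u} [CommGroup M]
variable (φ : R' ⊗[R] A ≃ₐc[R'] MonoidAlgebra R' M)
variable (L L' : Type u) [CommRing L] [CommRing L'] [Algebra R L] [Algebra R L'] [Algebra L L']
  [IsScalarTower R L L'] [Algebra R' L'] [IsScalarTower R R' L']

lemma chi_one : chi φ L' 1 = 1 := by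
  unfold chi
  rw [← MonoidAlgebra.one_def, map_one, map_one]

lemma chi_mul (m m' : M) : chi φ L' (m * m') = chi φ L' m * chi φ L' m' := by
  unfold chi
  rw [← map_mul, ← map_mul, MonoidAlgebra.single_mul_single, one_mul]

/-- descent of all the characters from descent of the characters in a generating set -/
lemma descends_all (F : Set M) (hF : Submonoid.closure F = ⊤)
    (hgen : ∀ m ∈ F, ∃ g : L ⊗[R] A, push A (IsScalarTower.toAlgHom R L L') g = chi φ L' m)
    (m : M) : ∃ g : L ⊗[R] A, push A (IsScalarTower.toAlgHom R L L') g = chi φ L' m := by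
  have hm : m ∈ Submonoid.closure F := hF ▸ Submonoid.mem_top m
  induction hm using Submonoid.closure_induction with
  | mem x hx => exact hgen x hx
  | one => exact ⟨1, by rw [map_one, chi_one]⟩
  | mul x y _ _ hx hy =>
    obtain ⟨g, hg⟩ := hx
    obtain ⟨g', hg'⟩ := hy
    exact ⟨g * g', by rw [map_mul, hg, hg', chi_mul]⟩

variable [Module.Flat R A] [Module.FaithfullyFlat L L']

lemma toAlgHom_injective : Function.Injective (IsScalarTower.toAlgHom R L L') :=
  FaithfulSMul.algebraMap_injective L L'

variable (hall : ∀ m : M, ∃ g : L ⊗[R] A,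
  push A (IsScalarTower.toAlgHom R L L') g = chi φ L' m)

/-- the descended characters -/
noncomputable def gam0 (m : M) : L ⊗[R] A := (hall m).choose

lemma push_gam0 (m : M) :
    push A (IsScalarTower.toAlgHom R L L') (gam0 φ L L' hall m) = chi φ L' m :=
  (hall m).choose_spec

lemma gam0_groupLike (m : M) : IsGroupLikeElem L (gam0 φ L L' hall m) := by
  apply groupLike_of_push A (IsScalarTower.toAlgHom R L L') (toAlgHom_injective L L')
  rw [push_gam0]
  exact chi_groupLike φ L' m

/-- the descended characters as a group homomorphism -/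
noncomputable def gam : M →* GroupLike L (L ⊗[R] A) where
  toFun m := ⟨gam0 φ L L' hall m, gam0_groupLike φ L L' hall m⟩
  map_one' := by
    apply GroupLike.val_injective
    apply push_injective A (IsScalarTower.toAlgHom R L L') (toAlgHom_injective L L')
    show push A _ (gam0 φ L L' hall 1) = push A _ 1
    rw [push_gam0, map_one, chi_one]
  map_mul' m m' := by
    apply GroupLike.val_injective
    apply push_injective A (IsScalarTower.toAlgHom R L L') (toAlgHom_injective L L')
    show push A _ (gam0 φ L L' hall (m * m')) =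
      push A _ (gam0 φ L L' hall m * gam0 φ L L' hall m')
    rw [push_gam0, map_mul, push_gam0, push_gam0, chi_mul]

/-- the comparison map `L[M] → L ⊗ A` -/
noncomputable def PsiL : MonoidAlgebra L M →ₐc[L] L ⊗[R] A :=
  (MonoidAlgebra.liftGroupLikeBialgHom (R := L) (A := L ⊗[R] A)).comp
    (MonoidAlgebra.mapDomainBialgHom L (gam φ L L' hall))

lemma PsiL_single (m : M) (c : L) :
    PsiL φ L L' hall (MonoidAlgebra.single m c) = c • gam0 φ L L' hall m := by
  simp [PsiL, MonoidAlgebra.liftGroupLikeBialgHom, Algebra.smul_def, gam]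

lemma push_PsiL (z : MonoidAlgebra L M) :
    push A (IsScalarTower.toAlgHom R L L') (PsiL φ L L' hall z) =
      (chartOver φ L').symm (MonoidAlgebra.mapRingHom M (algebraMap L L') z) := by
  induction z using MonoidAlgebra.induction_linear with
  | zero => simp
  | add x y hx hy => rw [map_add, map_add, hx, hy, map_add, map_add]
  | single m c =>
    rw [PsiL_single, push_smul, push_gam0, MonoidAlgebra.mapRingHom_single,
      chartOver_symm_single']
    rfl

lemma PsiL_injective : Function.Injective (PsiL φ L L' hall) := by
  intro z z' h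
  have h1 := congrArg (push A (IsScalarTower.toAlgHom R L L')) h
  rw [push_PsiL, push_PsiL] at h1
  have h2 := (chartOver φ L').symm.toEquiv.injective h1
  exact MonoidAlgebra.map_injective _ (FaithfulSMul.algebraMap_injective L L') h2

lemma jl_comp_eq_jr_comp : (jl (R := R) L L').comp (IsScalarTower.toAlgHom R L L') =
    (jr (R := R) L L').comp (IsScalarTower.toAlgHom R L L') := by
  apply AlgHom.ext
  intro l
  show (algebraMap L L' l) ⊗ₜ[L] (1 : L') = (1 : L') ⊗ₜ[L] (algebraMap L L' l)
  rw [Algebra.algebraMap_eq_smul_one, TensorProduct.smul_tmul]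

lemma push_jl_eq_push_jr (y : L ⊗[R] A) :
    push A (jl (R := R) L L') (push A (IsScalarTower.toAlgHom R L L') y) =
      push A (jr (R := R) L L') (push A (IsScalarTower.toAlgHom R L L') y) := by
  rw [← push_comp, ← push_comp, jl_comp_eq_jr_comp]

lemma jl'_restrict :
    (Algebra.TensorProduct.includeLeft : L' →ₐ[R'] L' ⊗[L] L').restrictScalars R =
      jl (R := R) L L' := AlgHom.ext fun _ => rfl

include hall in
lemma push_jr_chi (a : M) :
    push A (jr (R := R) L L') (chi φ L' a) = chi φ (L' ⊗[L] L') a := by
  rw [← push_gam0 φ L L' hall a, ← push_jl_eq_push_jr, push_gam0,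
    ← jl'_restrict (R := R) (R' := R') L L']
  exact chi_push φ (Algebra.TensorProduct.includeLeft : L' →ₐ[R'] L' ⊗[L] L') a

include hall in
lemma chart_push_jr (w : MonoidAlgebra L' M) :
    chartOver φ (L' ⊗[L] L') (push A (jr (R := R) L L') ((chartOver φ L').symm w)) =
      MonoidAlgebra.mapRingHom M ((jr (R := R) L L') : L' →+* L' ⊗[L] L') w := by
  induction w using MonoidAlgebra.induction_linear with
  | zero => simp
  | add x y hx hy => rw [map_add, map_add, map_add, hx, hy, map_add]
  | single a c =>
    rw [chartOver_symm_single', push_smul, push_jr_chi φ L L' hall, MonoidAlgebra.mapRingHom_single]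
    exact chartOver_smul_chi φ a _

lemma chart_push_jl (w : MonoidAlgebra L' M) :
    chartOver φ (L' ⊗[L] L') (push A (jl (R := R) L L') ((chartOver φ L').symm w)) =
      MonoidAlgebra.mapRingHom M ((jl (R := R) L L') : L' →+* L' ⊗[L] L') w := by
  have h := chartOver_push φ (Algebra.TensorProduct.includeLeft : L' →ₐ[R'] L' ⊗[L] L')
    ((chartOver φ L').symm w)
  rw [jl'_restrict, BialgEquiv.apply_symm_apply] at h
  exact h

include hall in
lemma PsiL_surjective : Function.Surjective (PsiL φ L L' hall) := by
  intro y
  obtain ⟨w, hw⟩ : ∃ w, w = chartOver φ L' (push A (IsScalarTower.toAlgHom R L L') y) := ⟨_, rfl⟩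
  have hw' : (chartOver φ L').symm w = push A (IsScalarTower.toAlgHom R L L') y := by
    rw [hw, BialgEquiv.symm_apply_apply]
  have h1 : MonoidAlgebra.mapRingHom M ((jl (R := R) L L') : L' →+* L' ⊗[L] L') w =
      MonoidAlgebra.mapRingHom M ((jr (R := R) L L') : L' →+* L' ⊗[L] L') w := by
    rw [← chart_push_jl φ L L' w, ← chart_push_jr φ L L' hall w, hw', push_jl_eq_push_jr]
  have h2 : ∀ a : M, ∃ l : L, algebraMap L L' l = w.coeff a := by
    intro a
    apply exists_algebraMap_eq_of_tmul_eq
    have h3 := congrArg (fun x => x.coeff a) h1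
    simp only [MonoidAlgebra.coeff_mapRingHom] at h3
    exact h3
  have h4 : w ∈ Set.range (MonoidAlgebra.map (M := M) (algebraMap L L' : L →+ L')) := by
    rw [MonoidAlgebra.range_map]
    intro a
    obtain ⟨l, hl⟩ := h2 a
    exact ⟨l, hl⟩
  obtain ⟨z, hz⟩ := h4
  refine ⟨z, ?_⟩
  apply push_injective A (IsScalarTower.toAlgHom R L L') (toAlgHom_injective L L')
  rw [push_PsiL, ← hw']
  congr 1

/-- the chart over `L` -/
noncomputable def chartL : L ⊗[R] A ≃ₐc[L] MonoidAlgebra L M :=
  (BialgEquiv.ofBijective (PsiL φ L L' hall)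
    ⟨PsiL_injective φ L L' hall, PsiL_surjective φ L L' hall⟩).symm

lemma chartL_symm_single (m : M) :
    (chartL φ L L' hall).symm (MonoidAlgebra.single m 1) = gam0 φ L L' hall m := by
  show PsiL φ L L' hall (MonoidAlgebra.single m 1) = _
  rw [PsiL_single, one_smul]

end ChartL

section Summary

variable {R : Type u} [CommRing R] {A : Type u} [CommRing A] [HopfAlgebra R A]
variable {R' : Type u} [CommRing R'] [Algebra R R'] {M : Type u} [CommGroup M]
variable (φ : R' ⊗[R] A ≃ₐc[R'] MonoidAlgebra R' M)
variable (n : ℕ) [(torsionIdeal R A n).IsHopfIdeal R]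
variable (L L' : Type u) [CommRing L] [CommRing L'] [Algebra R L] [Algebra R L'] [Algebra L L']
  [IsScalarTower R L L'] [Algebra R' L'] [IsScalarTower R R' L']

/-- If the `n`-torsion is diagonalisable over `L` and `n` separates the weights occurring in the
second projections of a generating set of characters, then the group is diagonalisable over `L`,
with the same group of characters. -/
theorem exists_chart_of_torsion [Module.Flat R A] [Module.FaithfullyFlat L L']
    (hconn : ∀ e : L', IsIdempotentElem e → e = 0 ∨ e = 1)
    (hd : IsDiag L (L ⊗[R] (A ⧸ torsionIdeal R A n))) (F : Set M)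
    (hF : Submonoid.closure F = ⊤)
    (hsep : ∀ m ∈ F, ∀ a ∈ (xi0 φ m).coeff.support, a ≠ m →
      QuotientGroup.mk' (powMonoidHom n : M →* M).range a ≠
        QuotientGroup.mk' (powMonoidHom n : M →* M).range m) :
    Nonempty (L ⊗[R] A ≃ₐc[L] MonoidAlgebra L M) := by
  have hall := descends_all φ L L' F hF
    (fun m hm => descends_of_torsion φ n L L' hconn hd m (hsep m hm))
  exact ⟨chartL φ L L' hall⟩

end Summary

end Groth.Agent.Lib.Helper6.QIso
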