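import Mathlib
import Groth.Prelude.Def_SGA3b
import Groth.Agent.Lib.Helper6.QIso.QI4

/-!
# Quasi-isotriviality, part 8: group-like elements via base-changed maps, pushing characters
(helper6)
-/

set_option autoImplicit false
set_option linter.unusedSectionVars false
set_option linter.unusedVariables false
set_option linter.unusedSimpArgs false
set_option linter.style.haveILetI false
set_option linter.overlappingInstances false
set_option maxHeartbeats 800000
set_option synthInstance.maxHeartbeats 400000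

universe u
open TensorProduct SGA3b Coalgebra
open Groth.Agent.Lib.Helper6.MultType Groth.Agent.Lib.Helper6.Isotriv

namespace Groth.Agent.Lib.Helper6.QIso

section PushC

variable {R : Type u} [CommRing R] (C : Type u) [CommRing C] [Algebra R C]
variable {S₁ S₂ S₃ : Type u} [CommRing S₁] [CommRing S₂] [CommRing S₃]
  [Algebra R S₁] [Algebra R S₂] [Algebra R S₃]

/-- `ψ ⊗ id : S₁ ⊗ C → S₂ ⊗ C` for an arbitrary algebra `C`. -/
noncomputable def pushC (ψ : S₁ →ₐ[R] S₂) : S₁ ⊗[R] C →ₐ[R] S₂ ⊗[R] C :=
  Algebra.TensorProduct.map ψ (AlgHom.id R C)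

@[simp] lemma pushC_tmul (ψ : S₁ →ₐ[R] S₂) (s : S₁) (c : C) :
    pushC C ψ (s ⊗ₜ c) = ψ s ⊗ₜ c := by
  simp [pushC]

lemma pushC_smul (ψ : S₁ →ₐ[R] S₂) (s : S₁) (x : S₁ ⊗[R] C) :
    pushC C ψ (s • x) = ψ s • pushC C ψ x := by
  induction x using TensorProduct.induction_on with
  | zero => simp
  | tmul t c =>
    rw [TensorProduct.smul_tmul', pushC_tmul, pushC_tmul, TensorProduct.smul_tmul', smul_eq_mul,
      smul_eq_mul, map_mul]
  | add y z hy hz => rw [smul_add, map_add, hy, hz, map_add, smul_add]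

lemma pushC_comp (ψ : S₁ →ₐ[R] S₂) (ψ' : S₂ →ₐ[R] S₃) (x : S₁ ⊗[R] C) :
    pushC C (ψ'.comp ψ) x = pushC C ψ' (pushC C ψ x) := by
  induction x using TensorProduct.induction_on with
  | zero => simp
  | tmul s a => simp
  | add y z hy hz => rw [map_add, hy, hz, map_add, map_add]

end PushC

section BcMap

variable {R : Type u} [CommRing R] {A : Type u} [CommRing A] [Algebra R A]
variable {C : Type u} [CommRing C] [Algebra R C]
variable (f : A →ₐ[R] C) (S : Type u) [CommRing S] [Algebra R S]

/-- the base change `S ⊗ A → S ⊗ C` of an algebra map `A → C` -/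
noncomputable def bcMap : S ⊗[R] A →ₐ[S] S ⊗[R] C :=
  Algebra.TensorProduct.map (AlgHom.id S S) f

@[simp] lemma bcMap_tmul (s : S) (a : A) : bcMap f S (s ⊗ₜ a) = s ⊗ₜ f a := by
  simp [bcMap]

variable {S}
variable {S₂ : Type u} [CommRing S₂] [Algebra R S₂]

lemma bcMap_pushC (ψ : S →ₐ[R] S₂) (y : S ⊗[R] A) :
    pushC C ψ (bcMap f S y) = bcMap f S₂ (pushC A ψ y) := by
  induction y using TensorProduct.induction_on with
  | zero => simp
  | tmul s a => simp
  | add y z hy hz => rw [map_add, map_add, hy, hz, map_add, map_add]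

end BcMap

section Criterion

variable {R : Type u} [CommRing R] {A : Type u} [CommRing A] [Bialgebra R A]
variable (S : Type u) [CommRing S] [Algebra R S]

lemma comul_eq_distrib (y : S ⊗[R] A) :
    comul (R := S) y = TensorProduct.AlgebraTensorModule.distribBaseChange R S A A
      (bcMap (Bialgebra.comulAlgHom R A) S y) := by
  induction y using TensorProduct.induction_on with
  | zero => simp
  | tmul s a =>
    have h1 : (s ⊗ₜ[R] a : S ⊗[R] A) = s • ((1 : S) ⊗ₜ[R] a) := by
      rw [TensorProduct.smul_tmul', smul_eq_mul, mul_one]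
    have h2 : (s ⊗ₜ[R] (comul (R := R) a) : S ⊗[R] (A ⊗[R] A)) =
        s • ((1 : S) ⊗ₜ[R] comul (R := R) a) := by
      rw [TensorProduct.smul_tmul', smul_eq_mul, mul_one]
    rw [bcMap_tmul, Bialgebra.comulAlgHom_apply, h2, map_smul, ← T₀_eq, ← comul_one_tmul,
      ← map_smul, ← h1]
  | add y z hy hz => rw [map_add, hy, hz, map_add, map_add]

lemma tmul_eq_distrib (y y' : S ⊗[R] A) :
    y ⊗ₜ[S] y' = TensorProduct.AlgebraTensorModule.distribBaseChange R S A A
      (bcMap (Algebra.TensorProduct.includeLeft : A →ₐ[R] A ⊗[R] A) S y *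
        bcMap (Algebra.TensorProduct.includeRight : A →ₐ[R] A ⊗[R] A) S y') := by
  induction y using TensorProduct.induction_on with
  | zero => simp
  | add y z hy hz => rw [TensorProduct.add_tmul, hy, hz, map_add, add_mul, map_add]
  | tmul s a =>
    induction y' using TensorProduct.induction_on with
    | zero => simp
    | add y z hy hz => rw [TensorProduct.tmul_add, hy, hz, map_add, mul_add, map_add]
    | tmul s' a' =>
      rw [bcMap_tmul, bcMap_tmul, Algebra.TensorProduct.includeLeft_apply,
        Algebra.TensorProduct.includeRight_apply, Algebra.TensorProduct.tmul_mul_tmul,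
        Algebra.TensorProduct.tmul_mul_tmul, mul_one, one_mul,
        TensorProduct.AlgebraTensorModule.distribBaseChange_tmul]
      have h1 : (s' ⊗ₜ[R] a' : S ⊗[R] A) = s' • ((1 : S) ⊗ₜ[R] a') := by
        rw [TensorProduct.smul_tmul', smul_eq_mul, mul_one]
      rw [h1, TensorProduct.tmul_smul, TensorProduct.smul_tmul', TensorProduct.smul_tmul',
        smul_eq_mul, mul_comm s' s]

lemma counit_eq_rid (y : S ⊗[R] A) :
    counit (R := S) y =
      Algebra.TensorProduct.rid R S S (bcMap (Bialgebra.counitAlgHom R A) S y) := by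
  induction y using TensorProduct.induction_on with
  | zero => simp
  | tmul s a =>
    rw [bcMap_tmul, Algebra.TensorProduct.rid_tmul, TensorProduct.counit_tmul]
    simp
  | add y z hy hz => rw [map_add, hy, hz, map_add, map_add]

/-- group-like elements of `S ⊗ A` in terms of the base changes of the structure maps of `A` -/
theorem isGroupLikeElem_iff_bcMap (y : S ⊗[R] A) :
    IsGroupLikeElem S y ↔
      (bcMap (Bialgebra.comulAlgHom R A) S y =
        bcMap (Algebra.TensorProduct.includeLeft : A →ₐ[R] A ⊗[R] A) S y *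
          bcMap (Algebra.TensorProduct.includeRight : A →ₐ[R] A ⊗[R] A) S y) ∧
      bcMap (Bialgebra.counitAlgHom R A) S y = 1 := by
  constructor
  · intro h
    refine ⟨?_, ?_⟩
    · apply (TensorProduct.AlgebraTensorModule.distribBaseChange R S A A).injective
      rw [← comul_eq_distrib, ← tmul_eq_distrib]
      exact h.comul_eq_tmul_self
    · apply (Algebra.TensorProduct.rid R S S).injective
      rw [← counit_eq_rid, map_one]
      exact h.counit_eq_one
  · rintro ⟨h1, h2⟩
    exact { counit_eq_one := by rw [counit_eq_rid, h2, map_one]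
            comul_eq_tmul_self := by rw [comul_eq_distrib, h1, ← tmul_eq_distrib] }

end Criterion

section PushGL

variable {R : Type u} [CommRing R] (A : Type u) [CommRing A] [HopfAlgebra R A]
variable {S₁ S₂ S₃ : Type u} [CommRing S₁] [CommRing S₂] [CommRing S₃]
  [Algebra R S₁] [Algebra R S₂] [Algebra R S₃]

/-- pushing characters forward along a map of base rings -/
noncomputable def pushGL (ψ : S₁ →ₐ[R] S₂) :
    GroupLike S₁ (S₁ ⊗[R] A) →* GroupLike S₂ (S₂ ⊗[R] A) where
  toFun y := ⟨push A ψ y.val, push_groupLike A ψ y.isGroupLikeElem_val⟩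
  map_one' := GroupLike.val_injective (by
    show push A ψ 1 = 1
    rw [map_one])
  map_mul' a b := GroupLike.val_injective (by
    show push A ψ (a.val * b.val) = push A ψ a.val * push A ψ b.val
    rw [map_mul])

@[simp] lemma pushGL_val (ψ : S₁ →ₐ[R] S₂) (y : GroupLike S₁ (S₁ ⊗[R] A)) :
    (pushGL A ψ y).val = push A ψ y.val := rfl

lemma pushGL_comp (ψ : S₁ →ₐ[R] S₂) (ψ' : S₂ →ₐ[R] S₃) (y : GroupLike S₁ (S₁ ⊗[R] A)) :
    pushGL A (ψ'.comp ψ) y = pushGL A ψ' (pushGL A ψ y) :=
  GroupLike.val_injective (push_comp A ψ ψ' y.val)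

variable {G : Type u} [CommGroup G]

/-- the bialgebra map `S[G] → S ⊗ A` attached to a homomorphism from `G` to the characters -/
noncomputable def PsiOf (S : Type u) [CommRing S] [Algebra R S]
    (γ : G →* GroupLike S (S ⊗[R] A)) : MonoidAlgebra S G →ₐc[S] S ⊗[R] A :=
  (MonoidAlgebra.liftGroupLikeBialgHom (R := S) (A := S ⊗[R] A)).comp
    (MonoidAlgebra.mapDomainBialgHom S γ)

lemma PsiOf_single (S : Type u) [CommRing S] [Algebra R S]
    (γ : G →* GroupLike S (S ⊗[R] A)) (m : G) (c : S) :
    PsiOf A S γ (MonoidAlgebra.single m c) = c • (γ m).val := by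
  simp [PsiOf, MonoidAlgebra.liftGroupLikeBialgHom, Algebra.smul_def]

lemma push_PsiOf (ψ : S₁ →ₐ[R] S₂) (γ : G →* GroupLike S₁ (S₁ ⊗[R] A))
    (z : MonoidAlgebra S₁ G) :
    push A ψ (PsiOf A S₁ γ z) =
      PsiOf A S₂ ((pushGL A ψ).comp γ) (MonoidAlgebra.mapRingHom G (ψ : S₁ →+* S₂) z) := by
  induction z using MonoidAlgebra.induction_linear with
  | zero => simp
  | add x y hx hy => rw [map_add, map_add, hx, hy, map_add, map_add]
  | single m c =>
    rw [PsiOf_single, push_smul, MonoidAlgebra.mapRingHom_single, PsiOf_single]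
    rfl

/-- surjectivity of `PsiOf` can be tested on the elements `1 ⊗ a` -/
lemma PsiOf_surjective_of_one_tmul (S : Type u) [CommRing S] [Algebra R S]
    (γ : G →* GroupLike S (S ⊗[R] A))
    (h : ∀ a : A, ∃ z : MonoidAlgebra S G, PsiOf A S γ z = (1 : S) ⊗ₜ[R] a) :
    Function.Surjective (PsiOf A S γ) := by
  intro y
  induction y using TensorProduct.induction_on with
  | zero => exact ⟨0, map_zero _⟩
  | tmul s a =>
    obtain ⟨z, hz⟩ := h a
    refine ⟨s • z, ?_⟩
    rw [map_smul, hz, TensorProduct.smul_tmul', smul_eq_mul, mul_one]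
  | add y z hy hz =>
    obtain ⟨y', hy'⟩ := hy
    obtain ⟨z', hz'⟩ := hz
    exact ⟨y' + z', by rw [map_add, hy', hz']⟩

end PushGL

end Groth.Agent.Lib.Helper6.QIso
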