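import Mathlib
import Groth.Prelude.Def_SGA3b
import Groth.Agent.Lib.Helper6.QIso.QI8

/-!
# Quasi-isotriviality, part 9: generalities on localisation and base change (helper6)
-/

set_option autoImplicit false
set_option linter.unusedSectionVars false
set_option linter.unusedVariables false
set_option linter.unusedSimpArgs false
set_option linter.style.haveILetI false
set_option linter.overlappingInstances false
set_option maxHeartbeats 800000
set_option synthInstance.maxHeartbeats 400000

universe u
open TensorProduct SGA3b Coalgebra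
open Groth.Agent.Lib.Helper6.MultType Groth.Agent.Lib.Helper6.Isotriv

namespace Groth.Agent.Lib.Helper6.QIso

section Loc

variable {R : Type u} [CommRing R]
variable {T₁ : Type u} [CommRing T₁] [Algebra R T₁]
variable {L : Type u} [CommRing L] [Algebra R L] [Algebra T₁ L] [IsScalarTower R T₁ L]
variable (S₁ : Submonoid T₁) [IsLocalization S₁ L]
variable (C : Type u) [CommRing C] [Algebra R C]

omit [IsLocalization S₁ L] in
lemma pushC_eq_rTensor (x : T₁ ⊗[R] C) :
    pushC C (IsScalarTower.toAlgHom R T₁ L) x =
      TensorProduct.AlgebraTensorModule.rTensor R C (Algebra.linearMap T₁ L) x := by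
  induction x using TensorProduct.induction_on with
  | zero => simp
  | tmul t c => simp
  | add y z hy hz => rw [map_add, hy, hz, map_add]

lemma isLocalizedModule_rTensor :
    IsLocalizedModule S₁
      (TensorProduct.AlgebraTensorModule.rTensor R C (Algebra.linearMap T₁ L)) := by
  haveI : IsLocalizedModule S₁ (Algebra.linearMap T₁ L) :=
    isLocalizedModule_iff_isLocalization.mpr inferInstance
  infer_instance

/-- every element of `L ⊗ C` comes from `T₁ ⊗ C`, up to a denominator -/
lemma exists_lift_smul (w : L ⊗[R] C) :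
    ∃ s ∈ S₁, ∃ x : T₁ ⊗[R] C,
      pushC C (IsScalarTower.toAlgHom R T₁ L) x = (algebraMap T₁ L s) • w := by
  haveI := isLocalizedModule_rTensor (R := R) (L := L) S₁ C
  obtain ⟨⟨x, s⟩, hx⟩ := IsLocalizedModule.surj S₁
    (TensorProduct.AlgebraTensorModule.rTensor R C (Algebra.linearMap T₁ L)) w
  refine ⟨s.1, s.2, x, ?_⟩
  rw [pushC_eq_rTensor, ← hx, algebraMap_smul]
  rfl

/-- an element of `T₁ ⊗ C` dying in `L ⊗ C` is killed by a denominator -/
lemma exists_smul_eq_zero (x : T₁ ⊗[R] C)
    (hx : pushC C (IsScalarTower.toAlgHom R T₁ L) x = 0) : ∃ s ∈ S₁, s • x = 0 := by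
  haveI := isLocalizedModule_rTensor (R := R) (L := L) S₁ C
  rw [pushC_eq_rTensor] at hx
  obtain ⟨s, hs⟩ := (IsLocalizedModule.eq_zero_iff S₁ _).mp hx
  exact ⟨s.1, s.2, hs⟩

omit [Algebra T₁ L] [IsScalarTower R T₁ L] [IsLocalization S₁ L] in
/-- an element killed by `s` dies wherever `s` becomes invertible -/
lemma pushC_eq_zero_of_smul {T₂ : Type u} [CommRing T₂] [Algebra R T₂] (ψ : T₁ →ₐ[R] T₂)
    (s : T₁) (hs : IsUnit (ψ s)) (x : T₁ ⊗[R] C) (h : s • x = 0) : pushC C ψ x = 0 := by
  have h1 := congrArg (pushC C ψ) h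
  rw [pushC_smul, map_zero] at h1
  exact (IsUnit.smul_eq_zero hs).mp h1

end Loc

section MonAlg

variable {T₁ : Type u} [CommRing T₁] {L : Type u} [CommRing L] [Algebra T₁ L]
variable (S₁ : Submonoid T₁) [IsLocalization S₁ L]
variable {M : Type u} [CommGroup M]

omit [Algebra T₁ L] [IsLocalization S₁ L] in
lemma mapRingHom_smul {S₂ : Type u} [CommRing S₂] (f : T₁ →+* S₂) (c : T₁)
    (z : MonoidAlgebra T₁ M) :
    MonoidAlgebra.mapRingHom M f (c • z) = f c • MonoidAlgebra.mapRingHom M f z := by
  induction z using MonoidAlgebra.induction_linear with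
  | zero => simp
  | add x y hx hy => rw [smul_add, map_add, hx, hy, map_add, smul_add]
  | single m d =>
    rw [MonoidAlgebra.smul_single, MonoidAlgebra.mapRingHom_single, MonoidAlgebra.mapRingHom_single,
      MonoidAlgebra.smul_single, smul_eq_mul, smul_eq_mul, map_mul]

/-- clearing denominators in a group algebra -/
lemma exists_clear_denom (z : MonoidAlgebra L M) :
    ∃ s ∈ S₁, ∃ z' : MonoidAlgebra T₁ M,
      MonoidAlgebra.mapRingHom M (algebraMap T₁ L) z' = (algebraMap T₁ L s) • z := by
  induction z using MonoidAlgebra.induction_linear with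
  | zero => exact ⟨1, S₁.one_mem, 0, by simp⟩
  | add x y hx hy =>
    obtain ⟨s, hs, x', hx'⟩ := hx
    obtain ⟨t, ht, y', hy'⟩ := hy
    refine ⟨s * t, S₁.mul_mem hs ht, t • x' + s • y', ?_⟩
    rw [map_add, mapRingHom_smul, mapRingHom_smul, hx', hy', smul_smul, smul_smul, map_mul,
      smul_add, mul_comm (algebraMap T₁ L t)]
  | single m c =>
    obtain ⟨⟨t, s⟩, h⟩ := IsLocalization.surj S₁ c
    refine ⟨s.1, s.2, MonoidAlgebra.single m t, ?_⟩
    rw [MonoidAlgebra.mapRingHom_single, MonoidAlgebra.smul_single, smul_eq_mul, mul_comm]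
    congr 1
    exact h.symm

/-- an element of `T₁[M]` dying in `L[M]` is killed by a denominator -/
lemma exists_smul_eq_zero_of_mapRingHom (z' : MonoidAlgebra T₁ M)
    (h : MonoidAlgebra.mapRingHom M (algebraMap T₁ L) z' = 0) : ∃ s ∈ S₁, s • z' = 0 := by
  classical
  have h1 : ∀ a : M, ∃ s : S₁, (s : T₁) * z'.coeff a = 0 := by
    intro a
    have h2 := congrArg (fun x => x.coeff a) h
    simp only [MonoidAlgebra.coeff_mapRingHom] at h2
    exact (IsLocalization.map_eq_zero_iff S₁ L _).mp h2
  choose s hs using h1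
  refine ⟨∏ a ∈ z'.coeff.support, (s a : T₁), Submonoid.prod_mem _ (fun a _ => (s a).2), ?_⟩
  apply MonoidAlgebra.coeff_injective
  ext a
  rw [MonoidAlgebra.coeff_smul_apply]
  by_cases ha : a ∈ z'.coeff.support
  · obtain ⟨k, hk⟩ := Finset.dvd_prod_of_mem (fun a => (s a : T₁)) ha
    rw [hk, smul_eq_mul, mul_comm (s a : T₁) k, mul_assoc, hs a, mul_zero]
    rfl
  · rw [Finsupp.notMem_support_iff.mp ha, smul_zero]
    rfl

end MonAlg

section Away

variable {R : Type u} [CommRing R]
variable {T₁ : Type u} [CommRing T₁] [Algebra R T₁]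
variable {L : Type u} [CommRing L] [Algebra R L] [Algebra T₁ L] [IsScalarTower R T₁ L]
variable (S₁ : Submonoid T₁) [IsLocalization S₁ L]

example (h : T₁) : IsScalarTower R T₁ (Localization.Away h) := inferInstance

/-- the localisation away from an element of `S₁` is again a level below `L` -/
lemma exists_away_stage (h : T₁) (hh : h ∈ S₁) :
    ∃ (_ : Algebra (Localization.Away h) L), IsScalarTower T₁ (Localization.Away h) L ∧
      IsScalarTower R (Localization.Away h) L ∧
      IsLocalization (S₁.map (algebraMap T₁ (Localization.Away h))) L := by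
  have hu : IsUnit (algebraMap T₁ L h) := IsLocalization.map_units L (⟨h, hh⟩ : S₁)
  letI alg : Algebra (Localization.Away h) L := (IsLocalization.Away.lift h hu).toAlgebra
  have hmap : ∀ x, algebraMap (Localization.Away h) L x = IsLocalization.Away.lift h hu x :=
    fun _ => rfl
  haveI tw1 : IsScalarTower T₁ (Localization.Away h) L :=
    IsScalarTower.of_algebraMap_eq (fun t => by rw [hmap, IsLocalization.Away.lift_eq])
  haveI tw2 : IsScalarTower R (Localization.Away h) L :=
    IsScalarTower.of_algebraMap_eq (fun r => by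
      rw [IsScalarTower.algebraMap_apply R T₁ (Localization.Away h), hmap,
        IsLocalization.Away.lift_eq, ← IsScalarTower.algebraMap_apply])
  refine ⟨alg, tw1, tw2, ?_⟩
  exact IsLocalization.isLocalization_of_submonoid_le (Localization.Away h) L
    (Submonoid.powers h) S₁ (Submonoid.powers_le.mpr hh)

end Away

end Groth.Agent.Lib.Helper6.QIso
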