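import Mathlib
import Groth.Prelude.Def_SGA3b
import Groth.Agent.Lib.Helper6.QIso.QI9

/-!
# Quasi-isotriviality, part 10: spreading out characters and homomorphisms to the characters
(helper6)
-/

set_option autoImplicit false
set_option linter.unusedSectionVars false
set_option linter.unusedVariables false
set_option linter.unusedSimpArgs false
set_option linter.style.haveILetI false
set_option linter.overlappingInstances false
set_option maxHeartbeats 800000
set_option synthInstance.maxHeartbeats 400000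

universe u
open TensorProduct SGA3b Coalgebra
open Groth.Agent.Lib.Helper6.MultType Groth.Agent.Lib.Helper6.Isotriv

namespace Groth.Agent.Lib.Helper6.QIso

section Aux

variable {R : Type u} [CommRing R] {A : Type u} [CommRing A] [Algebra R A]
variable {C : Type u} [CommRing C] [Algebra R C]

lemma bcMap_smul (f : A →ₐ[R] C) (S : Type u) [CommRing S] [Algebra R S] (s : S)
    (y : S ⊗[R] A) : bcMap f S (s • y) = s • bcMap f S y := map_smul _ _ _

lemma toAlgHom_comp (T₁ T₂ L : Type u) [CommRing T₁] [CommRing T₂] [CommRing L] [Algebra R T₁]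
    [Algebra R T₂] [Algebra R L] [Algebra T₁ T₂] [Algebra T₂ L] [Algebra T₁ L]
    [IsScalarTower R T₁ T₂] [IsScalarTower R T₂ L] [IsScalarTower R T₁ L]
    [IsScalarTower T₁ T₂ L] :
    (IsScalarTower.toAlgHom R T₂ L).comp (IsScalarTower.toAlgHom R T₁ T₂) =
      IsScalarTower.toAlgHom R T₁ L :=
  AlgHom.ext (fun t => (IsScalarTower.algebraMap_apply T₁ T₂ L t).symm)

end Aux

section Stage1

variable {R : Type u} [CommRing R] {A : Type u} [CommRing A] [HopfAlgebra R A]
variable {T₁ : Type u} [CommRing T₁] [Algebra R T₁]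
variable {L : Type u} [CommRing L] [Algebra R L] [Algebra T₁ L] [IsScalarTower R T₁ L]
variable (S₁ : Submonoid T₁) [IsLocalization S₁ L]

/-- a character over `L` comes from a character over a localisation of `T₁` at one element -/
theorem exists_groupLike_lift_one (g : L ⊗[R] A) (hg : IsGroupLikeElem L g) :
    ∃ h ∈ S₁, ∀ (T₂ : Type u) [CommRing T₂] [Algebra R T₂] [Algebra T₁ T₂]
      [IsScalarTower R T₁ T₂] [Algebra T₂ L] [IsScalarTower T₁ T₂ L] [IsScalarTower R T₂ L],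
      IsUnit (algebraMap T₁ T₂ h) →
      ∃ y : T₂ ⊗[R] A, IsGroupLikeElem T₂ y ∧
        push A (IsScalarTower.toAlgHom R T₂ L) y = g := by
  obtain ⟨s, hs, x, hx⟩ := exists_lift_smul (R := R) S₁ A g
  obtain ⟨hΔ, hε⟩ := (isGroupLikeElem_iff_bcMap L g).mp hg
  have h1 : pushC (A ⊗[R] A) (IsScalarTower.toAlgHom R T₁ L)
      (s • bcMap (Bialgebra.comulAlgHom R A) T₁ x -
        bcMap (Algebra.TensorProduct.includeLeft : A →ₐ[R] A ⊗[R] A) T₁ x *
          bcMap (Algebra.TensorProduct.includeRight : A →ₐ[R] A ⊗[R] A) T₁ x) = 0 := by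
    rw [map_sub, pushC_smul, map_mul, bcMap_pushC, bcMap_pushC, bcMap_pushC, hx, bcMap_smul,
      bcMap_smul, bcMap_smul, hΔ, smul_mul_smul_comm, mul_smul, IsScalarTower.toAlgHom_apply,
      sub_self]
  have h2 : pushC R (IsScalarTower.toAlgHom R T₁ L)
      (bcMap (Bialgebra.counitAlgHom R A) T₁ x - s • 1) = 0 := by
    rw [map_sub, bcMap_pushC, hx, bcMap_smul, hε, pushC_smul, map_one,
      IsScalarTower.toAlgHom_apply, sub_self]
  obtain ⟨s₁, hs₁, k1⟩ := exists_smul_eq_zero (R := R) (L := L) S₁ (A ⊗[R] A) _ h1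
  obtain ⟨s₂, hs₂, k2⟩ := exists_smul_eq_zero (R := R) (L := L) S₁ R _ h2
  refine ⟨s * s₁ * s₂, S₁.mul_mem (S₁.mul_mem hs hs₁) hs₂, ?_⟩
  intro T₂ _ _ _ _ _ _ _ hu
  rw [map_mul, map_mul, IsUnit.mul_iff, IsUnit.mul_iff] at hu
  obtain ⟨⟨hus, hus₁⟩, hus₂⟩ := hu
  have t1 := pushC_eq_zero_of_smul (A ⊗[R] A) (IsScalarTower.toAlgHom R T₁ T₂) s₁ hus₁ _ k1
  have t2 := pushC_eq_zero_of_smul R (IsScalarTower.toAlgHom R T₁ T₂) s₂ hus₂ _ k2
  rw [map_sub, pushC_smul, map_mul, bcMap_pushC, bcMap_pushC, bcMap_pushC, sub_eq_zero,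
    IsScalarTower.toAlgHom_apply] at t1
  rw [map_sub, bcMap_pushC, pushC_smul, map_one, sub_eq_zero, IsScalarTower.toAlgHom_apply] at t2
  obtain ⟨v, hv⟩ := hus
  refine ⟨(↑v⁻¹ : T₂) • pushC A (IsScalarTower.toAlgHom R T₁ T₂) x, ?_, ?_⟩
  · rw [isGroupLikeElem_iff_bcMap]
    constructor
    · rw [bcMap_smul, bcMap_smul, bcMap_smul, smul_mul_smul_comm, ← t1, ← hv, smul_smul,
        Units.inv_mul_cancel_right]
    · rw [bcMap_smul, t2, ← hv, smul_smul, Units.inv_mul, one_smul]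
  · show pushC A (IsScalarTower.toAlgHom R T₂ L) _ = g
    rw [pushC_smul, ← pushC_comp, toAlgHom_comp, hx, smul_smul, IsScalarTower.toAlgHom_apply,
      IsScalarTower.algebraMap_apply T₁ T₂ L, ← hv, ← map_mul, Units.inv_mul, map_one, one_smul]

/-- finitely many characters over `L` come from characters over a localisation of `T₁` at one
element -/
theorem exists_groupLike_lift {r : ℕ} (g : Fin r → L ⊗[R] A)
    (hg : ∀ i, IsGroupLikeElem L (g i)) :
    ∃ h ∈ S₁, ∀ (T₂ : Type u) [CommRing T₂] [Algebra R T₂] [Algebra T₁ T₂]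
      [IsScalarTower R T₁ T₂] [Algebra T₂ L] [IsScalarTower T₁ T₂ L] [IsScalarTower R T₂ L],
      IsUnit (algebraMap T₁ T₂ h) →
      ∃ y : Fin r → GroupLike T₂ (T₂ ⊗[R] A),
        ∀ i, push A (IsScalarTower.toAlgHom R T₂ L) (y i).val = g i := by
  choose h hh H using fun i => exists_groupLike_lift_one (R := R) S₁ (g i) (hg i)
  refine ⟨∏ i, h i, Submonoid.prod_mem _ (fun i _ => hh i), ?_⟩
  intro T₂ _ _ _ _ _ _ _ hu
  have hu' : ∀ i, IsUnit (algebraMap T₁ T₂ (h i)) := fun i =>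
    isUnit_of_dvd_unit (map_dvd _ (Finset.dvd_prod_of_mem h (Finset.mem_univ i))) hu
  choose y hy hy' using fun i => H i T₂ (hu' i)
  exact ⟨fun i => ⟨y i, hy i⟩, hy'⟩

end Stage1

section LcZ

variable {G H : Type u} [CommGroup G] [CommGroup H] {r : ℕ}

/-- the homomorphism `ℤ^r → G` attached to `r` elements of `G`, written additively -/
noncomputable def lcZ (y : Fin r → G) : (Fin r → ℤ) →ₗ[ℤ] Additive G :=
  Fintype.linearCombination ℤ (fun i => Additive.ofMul (y i))

lemma lcZ_map (f : G →* H) (y : Fin r → G) (k : Fin r → ℤ) :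
    Additive.ofMul (f (Additive.toMul (lcZ y k))) = lcZ (fun i => f (y i)) k := by
  show (MonoidHom.toAdditive f) (lcZ y k) = _
  rw [lcZ, lcZ, Fintype.linearCombination_apply, Fintype.linearCombination_apply, map_sum]
  refine Finset.sum_congr rfl (fun i _ => ?_)
  rw [map_zsmul]
  rfl

end LcZ

section Stage2

variable {R : Type u} [CommRing R] {A : Type u} [CommRing A] [HopfAlgebra R A]
variable {T₁ : Type u} [CommRing T₁] [Algebra R T₁]
variable {L : Type u} [CommRing L] [Algebra R L] [Algebra T₁ L] [IsScalarTower R T₁ L]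
variable (S₁ : Submonoid T₁) [IsLocalization S₁ L]
variable {M : Type u} [CommGroup M] {r : ℕ}

omit [Algebra T₁ L] [IsScalarTower R T₁ L] in
lemma pushGL_lcZ (m : Fin r → M) (γL : M →* GroupLike L (L ⊗[R] A))
    {T' : Type u} [CommRing T'] [Algebra R T'] (ψ : T' →ₐ[R] L)
    (y' : Fin r → GroupLike T' (T' ⊗[R] A)) (hy' : ∀ i, pushGL A ψ (y' i) = γL (m i))
    (k : Fin r → ℤ) :
    pushGL A ψ (Additive.toMul (lcZ y' k)) = γL (Additive.toMul (lcZ m k)) := by
  have e1 := lcZ_map (pushGL A ψ) y' k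
  have e2 := lcZ_map γL m k
  have e3 : (fun i => pushGL A ψ (y' i)) = fun i => γL (m i) := funext hy'
  rw [e3] at e1
  exact Additive.ofMul.injective (e1.trans e2.symm)

/-- a homomorphism from a finitely generated group to the characters over `L`, given on
generators by characters over `T₁`, comes from a homomorphism to the characters over a
localisation of `T₁` at one element -/
theorem exists_hom_lift (m : Fin r → M) (hm : Function.Surjective (lcZ m))
    (y : Fin r → GroupLike T₁ (T₁ ⊗[R] A)) (γL : M →* GroupLike L (L ⊗[R] A))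
    (hy : ∀ i, pushGL A (IsScalarTower.toAlgHom R T₁ L) (y i) = γL (m i)) :
    ∃ h ∈ S₁, ∀ (T₂ : Type u) [CommRing T₂] [Algebra R T₂] [Algebra T₁ T₂]
      [IsScalarTower R T₁ T₂] [Algebra T₂ L] [IsScalarTower T₁ T₂ L] [IsScalarTower R T₂ L],
      IsUnit (algebraMap T₁ T₂ h) →
      ∃ γ₂ : M →* GroupLike T₂ (T₂ ⊗[R] A),
        ∀ m', pushGL A (IsScalarTower.toAlgHom R T₂ L) (γ₂ m') = γL m' := by
  classical
  obtain ⟨Sk, hSk⟩ : (LinearMap.ker (lcZ m)).FG := IsNoetherian.noetherian _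
  have hkill : ∀ k : Fin r → ℤ, ∃ s ∈ S₁, k ∈ Sk →
      s • ((Additive.toMul (lcZ y k)).val - 1) = 0 := by
    intro k
    by_cases hk : k ∈ Sk
    · have hk' : lcZ m k = 0 := by
        have : k ∈ LinearMap.ker (lcZ m) := hSk ▸ Submodule.subset_span hk
        exact LinearMap.mem_ker.mp this
      have h1 := pushGL_lcZ m γL (IsScalarTower.toAlgHom R T₁ L) y hy k
      rw [hk', toMul_zero, map_one] at h1
      have h2 : pushC A (IsScalarTower.toAlgHom R T₁ L)
          ((Additive.toMul (lcZ y k)).val - 1) = 0 := by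
        rw [map_sub, map_one, sub_eq_zero]
        exact congrArg GroupLike.val h1
      obtain ⟨s, hs, h3⟩ := exists_smul_eq_zero (R := R) (L := L) S₁ A _ h2
      exact ⟨s, hs, fun _ => h3⟩
    · exact ⟨1, S₁.one_mem, fun h => absurd h hk⟩
  choose s hs hs' using hkill
  refine ⟨∏ k ∈ Sk, s k, Submonoid.prod_mem _ (fun k _ => hs k), ?_⟩
  intro T₂ _ _ _ _ _ _ _ hu
  have hu' : ∀ k ∈ Sk, IsUnit (algebraMap T₁ T₂ (s k)) := fun k hk =>
    isUnit_of_dvd_unit (map_dvd _ (Finset.dvd_prod_of_mem s hk)) hu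
  obtain ⟨y₂, hy₂⟩ : ∃ y₂ : Fin r → GroupLike T₂ (T₂ ⊗[R] A),
      y₂ = fun i => pushGL A (IsScalarTower.toAlgHom R T₁ T₂) (y i) := ⟨_, rfl⟩
  have hy₂L : ∀ i, pushGL A (IsScalarTower.toAlgHom R T₂ L) (y₂ i) = γL (m i) := by
    intro i
    rw [hy₂, ← pushGL_comp, toAlgHom_comp]
    exact hy i
  have hle : LinearMap.ker (lcZ m) ≤ LinearMap.ker (lcZ y₂) := by
    rw [← hSk, Submodule.span_le]
    intro k hk
    have h1 := pushC_eq_zero_of_smul A (IsScalarTower.toAlgHom R T₁ T₂) (s k) (hu' k hk) _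
      (hs' k hk)
    rw [map_sub, map_one, sub_eq_zero] at h1
    have h2 : pushGL A (IsScalarTower.toAlgHom R T₁ T₂) (Additive.toMul (lcZ y k)) = 1 :=
      GroupLike.val_injective h1
    have h3 := lcZ_map (pushGL A (IsScalarTower.toAlgHom R T₁ T₂)) y k
    rw [h2, ← hy₂] at h3
    show lcZ y₂ k = 0
    rw [← h3]
    rfl
  obtain ⟨γa, hγa⟩ : ∃ γa : Additive M →ₗ[ℤ] Additive (GroupLike T₂ (T₂ ⊗[R] A)),
      γa = ((LinearMap.ker (lcZ m)).liftQ (lcZ y₂) hle).comp
        ((lcZ m).quotKerEquivOfSurjective hm).symm.toLinearMap := ⟨_, rfl⟩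
  have hγa' : ∀ k, γa (lcZ m k) = lcZ y₂ k := by
    intro k
    rw [hγa, LinearMap.comp_apply, LinearEquiv.coe_coe,
      LinearMap.quotKerEquivOfSurjective_symm_apply, Submodule.liftQ_apply]
  refine ⟨MonoidHom.toAdditive.symm γa.toAddMonoidHom, ?_⟩
  intro m'
  obtain ⟨k, hk⟩ := hm (Additive.ofMul m')
  have h1 : (MonoidHom.toAdditive.symm γa.toAddMonoidHom) m' = Additive.toMul (lcZ y₂ k) := by
    rw [← hγa' k, hk]
    rfl
  rw [h1, pushGL_lcZ m γL (IsScalarTower.toAlgHom R T₂ L) y₂ hy₂L k, hk]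
  rfl

end Stage2

end Groth.Agent.Lib.Helper6.QIso
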