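import Mathlib
import Groth.Prelude.Def_SGA3b
import Groth.Agent.Lib.Helper6.QIso.QI10

/-!
# Quasi-isotriviality, part 11: spreading out surjectivity and injectivity of the comparison map
(helper6)
-/

set_option autoImplicit false
set_option linter.unusedSectionVars false
set_option linter.unusedVariables false
set_option linter.unusedSimpArgs false
set_option linter.style.haveILetI false
set_option linter.overlappingInstances false
set_option maxHeartbeats 800000
set_option synthInstance.maxHeartbeats 400000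

universe u
open TensorProduct SGA3b Coalgebra
open Groth.Agent.Lib.Helper6.MultType Groth.Agent.Lib.Helper6.Isotriv

namespace Groth.Agent.Lib.Helper6.QIso

section Stage3

variable {R : Type u} [CommRing R] {A : Type u} [CommRing A] [HopfAlgebra R A]
variable {T₁ : Type u} [CommRing T₁] [Algebra R T₁]
variable {L : Type u} [CommRing L] [Algebra R L] [Algebra T₁ L] [IsScalarTower R T₁ L]
variable (S₁ : Submonoid T₁) [IsLocalization S₁ L]
variable {M : Type u} [CommGroup M]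
variable (e : L ⊗[R] A ≃ₐc[L] MonoidAlgebra L M) (γ₁ : M →* GroupLike T₁ (T₁ ⊗[R] A))

omit [IsLocalization S₁ L] in
lemma PsiOf_eq_symm
    (hγ : ∀ m, push A (IsScalarTower.toAlgHom R T₁ L) (γ₁ m).val =
      e.symm (MonoidAlgebra.single m 1)) (z : MonoidAlgebra L M) :
    PsiOf A L ((pushGL A (IsScalarTower.toAlgHom R T₁ L)).comp γ₁) z = e.symm z := by
  induction z using MonoidAlgebra.induction_linear with
  | zero => simp
  | add x y hx hy => rw [map_add, hx, hy, map_add]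
  | single m c =>
    rw [PsiOf_single]
    show c • push A (IsScalarTower.toAlgHom R T₁ L) (γ₁ m).val = _
    rw [hγ, ← map_smul, MonoidAlgebra.smul_single, smul_eq_mul, mul_one]

omit [IsLocalization S₁ L] in
lemma coe_toAlgHom_eq :
    ((IsScalarTower.toAlgHom R T₁ L : T₁ →ₐ[R] L) : T₁ →+* L) = algebraMap T₁ L := rfl

/-- an element `1 ⊗ a` is in the image of the comparison map over a localisation of `T₁` at one
element -/
theorem exists_span_lift_one
    (hγ : ∀ m, push A (IsScalarTower.toAlgHom R T₁ L) (γ₁ m).val =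
      e.symm (MonoidAlgebra.single m 1)) (a : A) :
    ∃ h ∈ S₁, ∀ (T₂ : Type u) [CommRing T₂] [Algebra R T₂] [Algebra T₁ T₂]
      [IsScalarTower R T₁ T₂] [Algebra T₂ L] [IsScalarTower T₁ T₂ L] [IsScalarTower R T₂ L],
      IsUnit (algebraMap T₁ T₂ h) →
      ∃ z : MonoidAlgebra T₂ M,
        PsiOf A T₂ ((pushGL A (IsScalarTower.toAlgHom R T₁ T₂)).comp γ₁) z =
          (1 : T₂) ⊗ₜ[R] a := by
  obtain ⟨s, hs, z', hz'⟩ := exists_clear_denom S₁ (e ((1 : L) ⊗ₜ[R] a))
  have hw : pushC A (IsScalarTower.toAlgHom R T₁ L)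
      (s • ((1 : T₁) ⊗ₜ[R] a) - PsiOf A T₁ γ₁ z') = 0 := by
    rw [map_sub, pushC_smul, pushC_tmul, map_one]
    show _ - push A (IsScalarTower.toAlgHom R T₁ L) (PsiOf A T₁ γ₁ z') = 0
    rw [push_PsiOf, PsiOf_eq_symm e γ₁ hγ, coe_toAlgHom_eq, hz', map_smul,
      BialgEquiv.symm_apply_apply, IsScalarTower.toAlgHom_apply, sub_self]
  obtain ⟨s', hs', k⟩ := exists_smul_eq_zero (R := R) (L := L) S₁ A _ hw
  refine ⟨s * s', S₁.mul_mem hs hs', ?_⟩
  intro T₂ _ _ _ _ _ _ _ hu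
  rw [map_mul, IsUnit.mul_iff] at hu
  obtain ⟨hus, hus'⟩ := hu
  have t := pushC_eq_zero_of_smul A (IsScalarTower.toAlgHom R T₁ T₂) s' hus' _ k
  rw [map_sub, pushC_smul, pushC_tmul, map_one, sub_eq_zero, IsScalarTower.toAlgHom_apply] at t
  change _ = push A (IsScalarTower.toAlgHom R T₁ T₂) (PsiOf A T₁ γ₁ z') at t
  rw [push_PsiOf] at t
  obtain ⟨v, hv⟩ := hus
  refine ⟨(↑v⁻¹ : T₂) • MonoidAlgebra.mapRingHom M
    ((IsScalarTower.toAlgHom R T₁ T₂ : T₁ →ₐ[R] T₂) : T₁ →+* T₂) z', ?_⟩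
  rw [map_smul, ← t, ← hv, smul_smul, Units.inv_mul, one_smul]

/-- the comparison map is surjective over a localisation of `T₁` at one element -/
theorem exists_surjective (hft : Algebra.FiniteType R A)
    (hγ : ∀ m, push A (IsScalarTower.toAlgHom R T₁ L) (γ₁ m).val =
      e.symm (MonoidAlgebra.single m 1)) :
    ∃ h ∈ S₁, ∀ (T₂ : Type u) [CommRing T₂] [Algebra R T₂] [Algebra T₁ T₂]
      [IsScalarTower R T₁ T₂] [Algebra T₂ L] [IsScalarTower T₁ T₂ L] [IsScalarTower R T₂ L],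
      IsUnit (algebraMap T₁ T₂ h) →
      Function.Surjective
        (PsiOf A T₂ ((pushGL A (IsScalarTower.toAlgHom R T₁ T₂)).comp γ₁)) := by
  classical
  obtain ⟨gen, hgen⟩ := hft.out
  choose h hh H using fun a => exists_span_lift_one (R := R) S₁ e γ₁ hγ a
  refine ⟨∏ a ∈ gen, h a, Submonoid.prod_mem _ (fun a _ => hh a), ?_⟩
  intro T₂ _ _ _ _ _ _ _ hu
  have hu' : ∀ a ∈ gen, IsUnit (algebraMap T₁ T₂ (h a)) := fun a ha =>
    isUnit_of_dvd_unit (map_dvd _ (Finset.dvd_prod_of_mem h ha)) hu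
  apply PsiOf_surjective_of_one_tmul
  have key : ∀ a ∈ Algebra.adjoin R (gen : Set A), ∃ z : MonoidAlgebra T₂ M,
      PsiOf A T₂ ((pushGL A (IsScalarTower.toAlgHom R T₁ T₂)).comp γ₁) z =
        (1 : T₂) ⊗ₜ[R] a := by
    intro a ha
    induction ha using Algebra.adjoin_induction with
    | mem a ha => exact H a T₂ (hu' a ha)
    | algebraMap r =>
      refine ⟨algebraMap T₂ _ (algebraMap R T₂ r), ?_⟩
      rw [AlgHomClass.commutes, Algebra.TensorProduct.algebraMap_apply,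
        Algebra.algebraMap_self_apply, Algebra.algebraMap_eq_smul_one r,
        Algebra.algebraMap_eq_smul_one r, TensorProduct.smul_tmul]
    | add a b _ _ ha hb =>
      obtain ⟨za, hza⟩ := ha
      obtain ⟨zb, hzb⟩ := hb
      exact ⟨za + zb, by rw [map_add, hza, hzb, TensorProduct.tmul_add]⟩
    | mul a b _ _ ha hb =>
      obtain ⟨za, hza⟩ := ha
      obtain ⟨zb, hzb⟩ := hb
      exact ⟨za * zb, by
        rw [map_mul, hza, hzb, Algebra.TensorProduct.tmul_mul_tmul, one_mul]⟩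
  intro a
  exact key a (hgen ▸ Algebra.mem_top)

end Stage3

section Stage4

variable {R : Type u} [CommRing R] {A : Type u} [CommRing A] [HopfAlgebra R A]
variable {T₁ : Type u} [CommRing T₁] [Algebra R T₁]
variable {L : Type u} [CommRing L] [Algebra R L] [Algebra T₁ L] [IsScalarTower R T₁ L]
variable (S₁ : Submonoid T₁) [IsLocalization S₁ L]
variable {M : Type u} [CommGroup M]
variable (e : L ⊗[R] A ≃ₐc[L] MonoidAlgebra L M) (γ₁ : M →* GroupLike T₁ (T₁ ⊗[R] A))

/-- the comparison map is injective over a localisation of `T₁` at one element -/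
theorem exists_injective [Algebra.FinitePresentation R A] (hM : Group.FG M)
    (hγ : ∀ m, push A (IsScalarTower.toAlgHom R T₁ L) (γ₁ m).val =
      e.symm (MonoidAlgebra.single m 1))
    (hsurj : Function.Surjective (PsiOf A T₁ γ₁)) :
    ∃ h ∈ S₁, ∀ (T₂ : Type u) [CommRing T₂] [Algebra R T₂] [Algebra T₁ T₂]
      [IsScalarTower R T₁ T₂] [IsLocalization.Away h T₂],
      Function.Injective
        (PsiOf A T₂ ((pushGL A (IsScalarTower.toAlgHom R T₁ T₂)).comp γ₁)) := by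
  classical
  haveI : Algebra.FinitePresentation T₁ (MonoidAlgebra T₁ M) :=
    finitePresentation_monoidAlgebra T₁ hM
  haveI : Algebra.FinitePresentation T₁ (T₁ ⊗[R] A) := Algebra.FinitePresentation.baseChange T₁
  obtain ⟨Ψa, hΨa⟩ : ∃ Ψa : MonoidAlgebra T₁ M →ₐ[T₁] T₁ ⊗[R] A,
      Ψa = ((PsiOf A T₁ γ₁ : MonoidAlgebra T₁ M →ₐc[T₁] T₁ ⊗[R] A) :
        MonoidAlgebra T₁ M →ₐ[T₁] T₁ ⊗[R] A) := ⟨_, rfl⟩
  have hΨa' : ∀ z, Ψa z = PsiOf A T₁ γ₁ z := fun z => by rw [hΨa]; rfl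
  have hsurj' : Function.Surjective Ψa := fun y => by
    obtain ⟨z, hz⟩ := hsurj y
    exact ⟨z, by rw [hΨa', hz]⟩
  obtain ⟨Sk, hSk⟩ := Algebra.FinitePresentation.ker_fG_of_surjective Ψa hsurj'
  have hkerL : ∀ k : MonoidAlgebra T₁ M, PsiOf A T₁ γ₁ k = 0 →
      MonoidAlgebra.mapRingHom M (algebraMap T₁ L) k = 0 := by
    intro k hk
    have h1 := congrArg (push A (IsScalarTower.toAlgHom R T₁ L)) hk
    rw [push_PsiOf, PsiOf_eq_symm e γ₁ hγ, map_zero, coe_toAlgHom_eq] at h1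
    have h2 : e.symm (MonoidAlgebra.mapRingHom M (algebraMap T₁ L) k) = e.symm 0 := by
      rw [h1, map_zero]
    exact e.symm.toEquiv.injective h2
  have hkill : ∀ k : MonoidAlgebra T₁ M, ∃ s ∈ S₁, k ∈ Sk → s • k = 0 := by
    intro k
    by_cases hk : k ∈ Sk
    · have hk' : k ∈ RingHom.ker Ψa.toRingHom := hSk ▸ Ideal.subset_span hk
      have hk'' : PsiOf A T₁ γ₁ k = 0 := by
        rw [← hΨa']
        exact hk'
      obtain ⟨s, hs, h3⟩ := exists_smul_eq_zero_of_mapRingHom S₁ k (hkerL k hk'')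
      exact ⟨s, hs, fun _ => h3⟩
    · exact ⟨1, S₁.one_mem, fun h => absurd h hk⟩
  choose s hs hs' using hkill
  refine ⟨∏ k ∈ Sk, s k, Submonoid.prod_mem _ (fun k _ => hs k), ?_⟩
  intro T₂ _ _ _ _ _
  have hu : IsUnit (algebraMap T₁ T₂ (∏ k ∈ Sk, s k)) :=
    IsLocalization.Away.algebraMap_isUnit (∏ k ∈ Sk, s k)
  have hu' : ∀ k ∈ Sk, IsUnit (algebraMap T₁ T₂ (s k)) := fun k hk =>
    isUnit_of_dvd_unit (map_dvd _ (Finset.dvd_prod_of_mem s hk)) hu
  have hmap0 : ∀ k ∈ Sk, MonoidAlgebra.mapRingHom M (algebraMap T₁ T₂) k = 0 := by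
    intro k hk
    have h1 := congrArg (MonoidAlgebra.mapRingHom M (algebraMap T₁ T₂)) (hs' k hk)
    rw [mapRingHom_smul, map_zero] at h1
    exact (IsUnit.smul_eq_zero (hu' k hk)).mp h1
  have hker_le : RingHom.ker Ψa.toRingHom ≤
      RingHom.ker (MonoidAlgebra.mapRingHom M (algebraMap T₁ T₂)) := by
    rw [← hSk, Ideal.span_le]
    intro k hk
    exact hmap0 k hk
  rw [injective_iff_map_eq_zero]
  intro x hx
  obtain ⟨p, hp, x', hx'⟩ := exists_clear_denom (L := T₂) (Submonoid.powers (∏ k ∈ Sk, s k)) x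
  have hpu : IsUnit (algebraMap T₁ T₂ p) := IsLocalization.map_units T₂ (⟨p, hp⟩ : Submonoid.powers (∏ k ∈ Sk, s k))
  have h1 : pushC A (IsScalarTower.toAlgHom R T₁ T₂) (PsiOf A T₁ γ₁ x') = 0 := by
    show push A (IsScalarTower.toAlgHom R T₁ T₂) (PsiOf A T₁ γ₁ x') = 0
    rw [push_PsiOf, coe_toAlgHom_eq, hx', map_smul, hx, smul_zero]
  obtain ⟨q, hq, h2⟩ := exists_smul_eq_zero (R := R) (L := T₂) (Submonoid.powers (∏ k ∈ Sk, s k)) A _ h1
  have hqu : IsUnit (algebraMap T₁ T₂ q) := IsLocalization.map_units T₂ (⟨q, hq⟩ : Submonoid.powers (∏ k ∈ Sk, s k))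
  have h3 : q • x' ∈ RingHom.ker Ψa.toRingHom := by
    show Ψa (q • x') = 0
    rw [hΨa', map_smul, h2]
  have h4 := hker_le h3
  rw [RingHom.mem_ker, mapRingHom_smul, hx', smul_smul] at h4
  exact (IsUnit.smul_eq_zero (hqu.mul hpu)).mp h4

end Stage4

end Groth.Agent.Lib.Helper6.QIso
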