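import Mathlib
import Groth.Prelude.Def_SGA3b
import Groth.Agent.Lib.Helper6.QIso.QI11

/-!
# Quasi-isotriviality, part 12: spreading out a chart from a localisation (helper6)
-/

set_option autoImplicit false
set_option linter.unusedSectionVars false
set_option linter.unusedVariables false
set_option linter.unusedSimpArgs false
set_option linter.style.haveILetI false
set_option linter.overlappingInstances false
set_option maxHeartbeats 800000
set_option synthInstance.maxHeartbeats 400000

universe u
open TensorProduct SGA3b Coalgebra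
open Groth.Agent.Lib.Helper6.MultType Groth.Agent.Lib.Helper6.Isotriv

namespace Groth.Agent.Lib.Helper6.QIso

section Good

variable (R : Type u) [CommRing R] (A : Type u) [CommRing A] [HopfAlgebra R A]

/-- there is an étale `T`-algebra below `L` over which `A` becomes diagonalisable -/
def Good (T L : Type u) [CommRing T] [CommRing L] [Algebra R T] [Algebra R L] [Algebra T L] :
    Prop :=
  ∃ (T' : Type u) (_ : CommRing T') (_ : Algebra R T') (_ : Algebra T T') (_ : Algebra T' L),
    IsScalarTower R T T' ∧ IsScalarTower T T' L ∧ Algebra.Etale T T' ∧ IsDiag T' (T' ⊗[R] A)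

lemma Good.trans {T₁ T₂ L : Type u} [CommRing T₁] [CommRing T₂] [CommRing L] [Algebra R T₁]
    [Algebra R T₂] [Algebra R L] [Algebra T₁ T₂] [Algebra T₂ L] [Algebra T₁ L]
    [IsScalarTower R T₁ T₂] [IsScalarTower T₁ T₂ L] [Algebra.Etale T₁ T₂]
    (h : Good R A T₂ L) : Good R A T₁ L := by
  obtain ⟨T', _, _, _, _, tw1, tw2, het, hd⟩ := h
  letI alg : Algebra T₁ T' := ((algebraMap T₂ T').comp (algebraMap T₁ T₂)).toAlgebra
  haveI t1 : IsScalarTower T₁ T₂ T' := IsScalarTower.of_algebraMap_eq (fun _ => rfl)
  haveI t2 : IsScalarTower R T₁ T' := IsScalarTower.of_algebraMap_eq (fun r => by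
    rw [IsScalarTower.algebraMap_apply R T₂ T', IsScalarTower.algebraMap_apply R T₁ T₂]
    rfl)
  haveI t3 : IsScalarTower T₁ T' L := IsScalarTower.of_algebraMap_eq (fun t => by
    rw [IsScalarTower.algebraMap_apply T₁ T₂ L, IsScalarTower.algebraMap_apply T₂ T' L]
    rfl)
  exact ⟨T', inferInstance, inferInstance, alg, inferInstance, t2, t3,
    Algebra.Etale.comp T₁ T₂ T', hd⟩

end Good

section Chain

variable {R : Type u} [CommRing R] {A : Type u} [CommRing A] [HopfAlgebra R A]
variable {T₁ : Type u} [CommRing T₁] [Algebra R T₁]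
variable {L : Type u} [CommRing L] [Algebra R L] [Algebra T₁ L] [IsScalarTower R T₁ L]
variable (S₁ : Submonoid T₁) [IsLocalization S₁ L]
variable {M : Type u} [CommGroup M]
variable (e : L ⊗[R] A ≃ₐc[L] MonoidAlgebra L M)

omit [Algebra T₁ L] [IsScalarTower R T₁ L] [IsLocalization S₁ L] in
lemma PsiOf_surjective_push {T₂ : Type u} [CommRing T₂] [Algebra R T₂] (ψ : T₁ →ₐ[R] T₂)
    (γ : M →* GroupLike T₁ (T₁ ⊗[R] A)) (hs : Function.Surjective (PsiOf A T₁ γ)) :
    Function.Surjective (PsiOf A T₂ ((pushGL A ψ).comp γ)) := by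
  apply PsiOf_surjective_of_one_tmul
  intro a
  obtain ⟨z, hz⟩ := hs ((1 : T₁) ⊗ₜ[R] a)
  refine ⟨MonoidAlgebra.mapRingHom M (ψ : T₁ →+* T₂) z, ?_⟩
  rw [← push_PsiOf, hz, push_tmul, map_one]

omit [Algebra T₁ L] [IsScalarTower R T₁ L] [IsLocalization S₁ L] in
/-- the characters of `L ⊗ A` given by a chart -/
noncomputable def gammaL : M →* GroupLike L (L ⊗[R] A) where
  toFun m := ⟨e.symm (MonoidAlgebra.single m 1),
    (MonoidAlgebra.isGroupLikeElem_single_one m).map e.symm⟩
  map_one' := GroupLike.val_injective (by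
    show e.symm (MonoidAlgebra.single 1 1) = 1
    rw [← MonoidAlgebra.one_def, map_one])
  map_mul' m m' := GroupLike.val_injective (by
    show e.symm (MonoidAlgebra.single (m * m') 1) =
      e.symm (MonoidAlgebra.single m 1) * e.symm (MonoidAlgebra.single m' 1)
    rw [← map_mul, MonoidAlgebra.single_mul_single, one_mul])

include S₁ in
theorem good_of_surjective [Algebra.FinitePresentation R A] (hM : Group.FG M)
    (γ₁ : M →* GroupLike T₁ (T₁ ⊗[R] A))
    (hγ : ∀ m, push A (IsScalarTower.toAlgHom R T₁ L) (γ₁ m).val =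
      e.symm (MonoidAlgebra.single m 1))
    (hsurj : Function.Surjective (PsiOf A T₁ γ₁)) : Good R A T₁ L := by
  obtain ⟨h, hh, H⟩ := exists_injective (R := R) S₁ e γ₁ hM hγ hsurj
  obtain ⟨alg, tw1, tw2, loc⟩ := exists_away_stage (R := R) (L := L) S₁ h hh
  letI := alg
  have hinj := H (Localization.Away h)
  have hsurj₂ := PsiOf_surjective_push (IsScalarTower.toAlgHom R T₁ (Localization.Away h)) γ₁ hsurj
  refine ⟨Localization.Away h, inferInstance, inferInstance, inferInstance, alg, inferInstance,
    tw1, inferInstance, ?_⟩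
  exact ⟨M, inferInstance, ⟨(BialgEquiv.ofBijective _ ⟨hinj, hsurj₂⟩).symm⟩⟩

include S₁ in
theorem good_of_hom [Algebra.FinitePresentation R A] (hM : Group.FG M)
    (γ₁ : M →* GroupLike T₁ (T₁ ⊗[R] A))
    (hγ : ∀ m, push A (IsScalarTower.toAlgHom R T₁ L) (γ₁ m).val =
      e.symm (MonoidAlgebra.single m 1)) : Good R A T₁ L := by
  have hft : Algebra.FiniteType R A := inferInstance
  obtain ⟨h, hh, H⟩ := exists_surjective (R := R) S₁ e γ₁ hft hγ
  obtain ⟨alg, tw1, tw2, loc⟩ := exists_away_stage (R := R) (L := L) S₁ h hh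
  letI := alg
  have hu : IsUnit (algebraMap T₁ (Localization.Away h) h) :=
    IsLocalization.Away.algebraMap_isUnit h
  have hsurj := H (Localization.Away h) hu
  have hγ₂ : ∀ m, push A (IsScalarTower.toAlgHom R (Localization.Away h) L)
      (((pushGL A (IsScalarTower.toAlgHom R T₁ (Localization.Away h))).comp γ₁) m).val =
        e.symm (MonoidAlgebra.single m 1) := by
    intro m
    show push A _ (push A _ (γ₁ m).val) = _
    rw [← push_comp, toAlgHom_comp, hγ]
  have hg := good_of_surjective (R := R) (L := L)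
    (S₁.map (algebraMap T₁ (Localization.Away h))) e hM _ hγ₂ hsurj
  exact Good.trans R A hg

include S₁ in
theorem good_of_groupLikes [Algebra.FinitePresentation R A] (hM : Group.FG M) {r : ℕ}
    (m : Fin r → M) (hm : Function.Surjective (lcZ m))
    (y : Fin r → GroupLike T₁ (T₁ ⊗[R] A))
    (hy : ∀ i, push A (IsScalarTower.toAlgHom R T₁ L) (y i).val =
      e.symm (MonoidAlgebra.single (m i) 1)) : Good R A T₁ L := by
  obtain ⟨h, hh, H⟩ := exists_hom_lift (R := R) S₁ m hm y (gammaL e)
    (fun i => GroupLike.val_injective (hy i))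
  obtain ⟨alg, tw1, tw2, loc⟩ := exists_away_stage (R := R) (L := L) S₁ h hh
  letI := alg
  have hu : IsUnit (algebraMap T₁ (Localization.Away h) h) :=
    IsLocalization.Away.algebraMap_isUnit h
  obtain ⟨γ₂, hγ₂⟩ := H (Localization.Away h) hu
  have hγ₂' : ∀ m', push A (IsScalarTower.toAlgHom R (Localization.Away h) L) (γ₂ m').val =
      e.symm (MonoidAlgebra.single m' 1) := fun m' => congrArg GroupLike.val (hγ₂ m')
  have hg := good_of_hom (R := R) (L := L)
    (S₁.map (algebraMap T₁ (Localization.Away h))) e hM γ₂ hγ₂'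
  exact Good.trans R A hg

include S₁ e in
/-- **Spreading out**: if `A` becomes diagonalisable over a localisation `L` of `T₁`, with a
finitely generated group of characters, then it becomes diagonalisable over an étale `T₁`-algebra
below `L` (an iterated localisation at one element). -/
theorem good_of_chart [Algebra.FinitePresentation R A] (hM : Group.FG M) : Good R A T₁ L := by
  haveI : Group.FG M := hM
  haveI : Module.Finite ℤ (Additive M) := Module.Finite.iff_addGroup_fg.mpr inferInstance
  obtain ⟨r, s, hs⟩ := Module.Finite.exists_fin (R := ℤ) (M := Additive M)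
  obtain ⟨m, hm0⟩ : ∃ m : Fin r → M, m = fun i => Additive.toMul (s i) := ⟨_, rfl⟩
  have hm : Function.Surjective (lcZ m) := by
    rw [← LinearMap.range_eq_top]
    show LinearMap.range (Fintype.linearCombination ℤ _) = ⊤
    rw [Fintype.range_linearCombination, hm0]
    exact hs
  obtain ⟨h, hh, H⟩ := exists_groupLike_lift (R := R) S₁
    (fun i => e.symm (MonoidAlgebra.single (m i) 1))
    (fun i => (gammaL e (m i)).isGroupLikeElem_val)
  obtain ⟨alg, tw1, tw2, loc⟩ := exists_away_stage (R := R) (L := L) S₁ h hh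
  letI := alg
  have hu : IsUnit (algebraMap T₁ (Localization.Away h) h) :=
    IsLocalization.Away.algebraMap_isUnit h
  obtain ⟨y, hy⟩ := H (Localization.Away h) hu
  have hg := good_of_groupLikes (R := R) (L := L)
    (S₁.map (algebraMap T₁ (Localization.Away h))) e hM m hm y hy
  exact Good.trans R A hg

end Chain

end Groth.Agent.Lib.Helper6.QIso
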