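import Mathlib
import Groth.Prelude.Def_SGA3b
import Groth.Agent.Lib.Helper6.QIso.QI1
import Groth.Agent.Lib.Helper6.Lift.GLLift
import Groth.Agent.Lib.Helper6.IsoNil.IN1

/-!
# Quasi-isotriviality, part 5: the algebra representing the group-like elements of a finite free
Hopf algebra of multiplicative type is etale (helper6)
-/

set_option autoImplicit false
set_option linter.unusedSectionVars false
set_option linter.unusedVariables false
set_option linter.unusedSimpArgs false
set_option linter.style.haveILetI false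
set_option linter.overlappingInstances false
set_option maxHeartbeats 800000
set_option synthInstance.maxHeartbeats 400000

universe u
open TensorProduct SGA3b Coalgebra
open Groth.Agent.Lib.Helper6.MultType Groth.Agent.Lib.Helper6.Isotriv
open Groth.Agent.Lib.Helper6.Lift

namespace Groth.Agent.Lib.Helper6.QIso

section Coord

variable {k : Type u} [CommRing k] {B : Type u} [CommRing B] [HopfAlgebra k B]
variable {d : ℕ} (b : Module.Basis (Fin d) k B)

/-- structure constants of the comultiplication -/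
noncomputable def cc (i : Fin d) (p : Fin d × Fin d) : k :=
  (b.tensorProduct b).repr (comul (R := k) (b i)) p

/-- structure constants of the counit -/
noncomputable def ee (i : Fin d) : k := counit (R := k) (b i)

lemma comul_basis (i : Fin d) :
    comul (R := k) (b i) = ∑ p : Fin d × Fin d, cc b i p • (b p.1 ⊗ₜ[k] b p.2) := by
  have h := (b.tensorProduct b).sum_repr (comul (R := k) (b i))
  rw [← h]
  refine Finset.sum_congr rfl fun p _ => ?_
  rw [Module.Basis.tensorProduct_apply']
  rfl

variable (S : Type u) [CommRing S] [Algebra k S]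

/-- the element of `S ⊗ B` with coordinates `s` -/
noncomputable def yy (s : Fin d → S) : S ⊗[k] B := ∑ i, s i • ((1 : S) ⊗ₜ[k] b i)

lemma yy_eq (s : Fin d → S) :
    yy b S s = ∑ i, s i • (Algebra.TensorProduct.basis S b) i := by
  unfold yy
  refine Finset.sum_congr rfl fun i _ => ?_
  rw [Algebra.TensorProduct.basis_apply]

lemma repr_yy (s : Fin d → S) (i : Fin d) :
    (Algebra.TensorProduct.basis S b).repr (yy b S s) i = s i := by
  rw [yy_eq, Module.Basis.repr_sum_self]

lemma yy_repr (x : S ⊗[k] B) :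
    yy b S (fun i => (Algebra.TensorProduct.basis S b).repr x i) = x := by
  rw [yy_eq]
  exact (Algebra.TensorProduct.basis S b).sum_repr x

lemma yy_injective {s s' : Fin d → S} (h : yy b S s = yy b S s') : s = s' := by
  funext i
  rw [← repr_yy b S s i, h, repr_yy]

lemma T₀_smul (c : k) (z : B ⊗[k] B) :
    T₀ k S B (c • z) = algebraMap k S c • T₀ k S B z := by
  rw [Algebra.smul_def, map_mul, T₀_algebraMap, ← Algebra.smul_def]

/-- the basis elements of `(S ⊗ B) ⊗[S] (S ⊗ B)` -/
noncomputable def bb (p : Fin d × Fin d) : (S ⊗[k] B) ⊗[S] (S ⊗[k] B) :=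
  ((1 : S) ⊗ₜ[k] b p.1) ⊗ₜ[S] ((1 : S) ⊗ₜ[k] b p.2)

lemma bb_eq (p : Fin d × Fin d) :
    bb b S p = ((Algebra.TensorProduct.basis S b).tensorProduct
      (Algebra.TensorProduct.basis S b)) p := by
  rw [Module.Basis.tensorProduct_apply', Algebra.TensorProduct.basis_apply,
    Algebra.TensorProduct.basis_apply]
  rfl

lemma comul_yy (s : Fin d → S) :
    comul (R := S) (yy b S s) =
      ∑ p : Fin d × Fin d, (∑ i, algebraMap k S (cc b i p) * s i) • bb b S p := by
  unfold yy
  rw [map_sum]
  have h1 : ∀ i, comul (R := S) (s i • ((1 : S) ⊗ₜ[k] b i)) =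
      ∑ p : Fin d × Fin d, (algebraMap k S (cc b i p) * s i) • bb b S p := by
    intro i
    rw [map_smul, comul_one_tmul, comul_basis, map_sum, Finset.smul_sum]
    refine Finset.sum_congr rfl fun p _ => ?_
    rw [T₀_smul, T₀_tmul, smul_smul, mul_comm]
    rfl
  rw [Finset.sum_congr rfl fun i _ => h1 i, Finset.sum_comm]
  refine Finset.sum_congr rfl fun p _ => ?_
  rw [Finset.sum_smul]

lemma yy_tmul_yy (s : Fin d → S) :
    yy b S s ⊗ₜ[S] yy b S s = ∑ p : Fin d × Fin d, (s p.1 * s p.2) • bb b S p := by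
  unfold yy
  rw [TensorProduct.sum_tmul]
  rw [Fintype.sum_prod_type]
  refine Finset.sum_congr rfl fun i _ => ?_
  rw [TensorProduct.tmul_sum]
  refine Finset.sum_congr rfl fun j _ => ?_
  rw [TensorProduct.smul_tmul_smul]
  rfl

lemma counit_yy (s : Fin d → S) :
    counit (R := S) (yy b S s) = ∑ i, algebraMap k S (ee b i) * s i := by
  unfold yy
  rw [map_sum]
  refine Finset.sum_congr rfl fun i _ => ?_
  rw [map_smul, counit_one_tmul, smul_eq_mul, mul_comm]
  rfl

/-- the relation expressing `Δ y = y ⊗ y` in the coordinate `p` -/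
noncomputable def relC (p : Fin d × Fin d) : MvPolynomial (Fin d) k :=
  ∑ i, MvPolynomial.C (cc b i p) * MvPolynomial.X i - MvPolynomial.X p.1 * MvPolynomial.X p.2

/-- the relation expressing `ε y = 1` -/
noncomputable def relE : MvPolynomial (Fin d) k :=
  ∑ i, MvPolynomial.C (ee b i) * MvPolynomial.X i - 1

lemma aeval_relC (s : Fin d → S) (p : Fin d × Fin d) :
    MvPolynomial.aeval s (relC b p) =
      ∑ i, algebraMap k S (cc b i p) * s i - s p.1 * s p.2 := by
  simp [relC]

lemma aeval_relE (s : Fin d → S) :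
    MvPolynomial.aeval s (relE b) = ∑ i, algebraMap k S (ee b i) * s i - 1 := by
  simp [relE]

lemma comul_sub (s : Fin d → S) :
    comul (R := S) (yy b S s) - yy b S s ⊗ₜ[S] yy b S s =
      ∑ p : Fin d × Fin d, MvPolynomial.aeval s (relC b p) • bb b S p := by
  rw [comul_yy, yy_tmul_yy, ← Finset.sum_sub_distrib]
  refine Finset.sum_congr rfl fun p _ => ?_
  rw [aeval_relC]
  exact (sub_smul (∑ i, algebraMap k S (cc b i p) * s i) (s p.1 * s p.2) (bb b S p)).symm

lemma counit_sub (s : Fin d → S) :
    counit (R := S) (yy b S s) - 1 = MvPolynomial.aeval s (relE b) := by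
  rw [counit_yy, aeval_relE]

lemma isGroupLikeElem_yy_iff (s : Fin d → S) :
    IsGroupLikeElem S (yy b S s) ↔
      (∀ p, MvPolynomial.aeval s (relC b p) = 0) ∧ MvPolynomial.aeval s (relE b) = 0 := by
  constructor
  · intro h
    refine ⟨?_, ?_⟩
    · have h1 := comul_sub b S s
      rw [h.comul_eq_tmul_self, sub_self] at h1
      have h2 : ∑ p : Fin d × Fin d, MvPolynomial.aeval s (relC b p) •
          ((Algebra.TensorProduct.basis S b).tensorProduct
            (Algebra.TensorProduct.basis S b)) p = 0 := by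
        rw [h1]
        refine Finset.sum_congr rfl fun p _ => ?_
        rw [bb_eq]
      exact fun p => Fintype.linearIndependent_iff.mp
        ((Algebra.TensorProduct.basis S b).tensorProduct
          (Algebra.TensorProduct.basis S b)).linearIndependent _ h2 p
    · rw [← counit_sub, h.counit_eq_one, sub_self]
  · rintro ⟨h1, h2⟩
    refine ⟨?_, ?_⟩
    · rw [← sub_eq_zero, counit_sub, h2]
    · rw [← sub_eq_zero, comul_sub]
      exact Finset.sum_eq_zero fun p _ => by rw [h1 p, zero_smul]

lemma glMod_yy (I₀ : Ideal S) (s : Fin d → S)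
    (h1 : ∀ p, MvPolynomial.aeval s (relC b p) ∈ I₀) (h2 : MvPolynomial.aeval s (relE b) ∈ I₀) :
    GLMod I₀ (yy b S s) := by
  refine ⟨?_, ?_⟩
  · rw [comul_sub]
    apply Ideal.sum_mem
    intro p _
    have e : MvPolynomial.aeval s (relC b p) • bb b S p =
        algebraMap S _ (MvPolynomial.aeval s (relC b p)) * bb b S p :=
      Algebra.smul_def (MvPolynomial.aeval s (relC b p)) (bb b S p)
    rw [e]
    exact Ideal.mul_mem_right _ _ (Ideal.mem_map_of_mem _ (h1 p))
  · rw [counit_sub]
    exact h2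

lemma yy_sub_mem (I₀ : Ideal S) (s s' : Fin d → S) (h : ∀ i, s i - s' i ∈ I₀) :
    yy b S s - yy b S s' ∈ Ideal.map (algebraMap S (S ⊗[k] B)) I₀ := by
  unfold yy
  rw [← Finset.sum_sub_distrib]
  apply Ideal.sum_mem
  intro i _
  rw [← sub_smul, Algebra.smul_def]
  exact Ideal.mul_mem_right _ _ (Ideal.mem_map_of_mem _ (h i))

lemma repr_mem_of_mem_map (I₀ : Ideal S) (x : S ⊗[k] B)
    (hx : x ∈ Ideal.map (algebraMap S (S ⊗[k] B)) I₀) (i : Fin d) :
    (Algebra.TensorProduct.basis S b).repr x i ∈ I₀ := by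
  have hx' : x ∈ (I₀ • ⊤ : Submodule S (S ⊗[k] B)) := by
    rw [Ideal.smul_top_eq_map]
    exact hx
  refine Submodule.smul_induction_on hx' ?_ ?_
  · intro r hr n _
    rw [map_smul, Finsupp.smul_apply, smul_eq_mul]
    exact Ideal.mul_mem_right _ _ hr
  · intro x y hx hy
    rw [map_add, Finsupp.add_apply]
    exact Ideal.add_mem _ hx hy

lemma push_yy {S₂ : Type u} [CommRing S₂] [Algebra k S₂] (f : S →ₐ[k] S₂) (s : Fin d → S) :
    push B f (yy b S s) = yy b S₂ (fun i => f (s i)) := by
  unfold yy
  rw [map_sum]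
  refine Finset.sum_congr rfl fun i _ => ?_
  rw [push_smul, push_tmul, map_one]

end Coord

section RepAlg

variable {k : Type u} [CommRing k] {B : Type u} [CommRing B] [HopfAlgebra k B]
variable {d : ℕ} (b : Module.Basis (Fin d) k B)

/-- the ideal of relations -/
noncomputable def relIdeal : Ideal (MvPolynomial (Fin d) k) :=
  Ideal.span (Set.range (relC b) ∪ {relE b})

/-- the algebra representing the group-like elements of `B` -/
abbrev RepAlg : Type u := MvPolynomial (Fin d) k ⧸ relIdeal b

/-- the coordinate functions -/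
noncomputable def xE (i : Fin d) : RepAlg b :=
  Ideal.Quotient.mk (relIdeal b) (MvPolynomial.X i)

variable (S : Type u) [CommRing S] [Algebra k S]

lemma relIdeal_le_ker (s : Fin d → S) (h1 : ∀ p, MvPolynomial.aeval s (relC b p) = 0)
    (h2 : MvPolynomial.aeval s (relE b) = 0) :
    ∀ a ∈ relIdeal b, MvPolynomial.aeval s a = 0 := by
  intro a ha
  have hle : relIdeal b ≤
      RingHom.ker (MvPolynomial.aeval s : MvPolynomial (Fin d) k →ₐ[k] S) := by
    unfold relIdeal
    rw [Ideal.span_le]
    rintro x (⟨p, rfl⟩ | hx)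
    · exact h1 p
    · rw [Set.mem_singleton_iff] at hx
      subst hx
      exact h2
  exact hle ha

/-- the point with coordinates `s` -/
noncomputable def ptOf (s : Fin d → S) (h1 : ∀ p, MvPolynomial.aeval s (relC b p) = 0)
    (h2 : MvPolynomial.aeval s (relE b) = 0) : RepAlg b →ₐ[k] S :=
  Ideal.Quotient.liftₐ (relIdeal b) (MvPolynomial.aeval s) (relIdeal_le_ker b S s h1 h2)

lemma ptOf_xE (s : Fin d → S) (h1 : ∀ p, MvPolynomial.aeval s (relC b p) = 0)
    (h2 : MvPolynomial.aeval s (relE b) = 0) (i : Fin d) :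
    ptOf b S s h1 h2 (xE b i) = s i := by
  simp [ptOf, xE]

lemma aeval_pt (f : RepAlg b →ₐ[k] S) (q : MvPolynomial (Fin d) k) :
    MvPolynomial.aeval (fun i => f (xE b i)) q = f (Ideal.Quotient.mk (relIdeal b) q) := by
  have h : (MvPolynomial.aeval (fun i => f (xE b i)) : MvPolynomial (Fin d) k →ₐ[k] S) =
      f.comp (Ideal.Quotient.mkₐ k (relIdeal b)) := by
    apply MvPolynomial.algHom_ext
    intro i
    simp [xE]
  rw [h]
  rfl

lemma pt_rel (f : RepAlg b →ₐ[k] S) :
    (∀ p, MvPolynomial.aeval (fun i => f (xE b i)) (relC b p) = 0) ∧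
      MvPolynomial.aeval (fun i => f (xE b i)) (relE b) = 0 := by
  constructor
  · intro p
    rw [aeval_pt]
    have h0 : Ideal.Quotient.mk (relIdeal b) (relC b p) = 0 :=
      Ideal.Quotient.eq_zero_iff_mem.mpr (Ideal.subset_span (Or.inl ⟨p, rfl⟩))
    rw [h0, map_zero]
  · rw [aeval_pt]
    have h0 : Ideal.Quotient.mk (relIdeal b) (relE b) = 0 :=
      Ideal.Quotient.eq_zero_iff_mem.mpr (Ideal.subset_span (Or.inr rfl))
    rw [h0, map_zero]

lemma algHom_ext_E {f f' : RepAlg b →ₐ[k] S} (h : ∀ i, f (xE b i) = f' (xE b i)) : f = f' := by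
  apply Ideal.Quotient.algHom_ext
  apply MvPolynomial.algHom_ext
  intro i
  exact h i

/-- the universal group-like element -/
noncomputable def uu : RepAlg b ⊗[k] B := yy b (RepAlg b) (xE b)

lemma uu_groupLike : IsGroupLikeElem (RepAlg b) (uu b) := by
  rw [uu, isGroupLikeElem_yy_iff]
  have h := pt_rel b (RepAlg b) (AlgHom.id k (RepAlg b))
  exact h

lemma push_uu (f : RepAlg b →ₐ[k] S) :
    push B f (uu b) = yy b S (fun i => f (xE b i)) :=
  push_yy b (RepAlg b) f (xE b)

lemma groupLike_pt (f : RepAlg b →ₐ[k] S) :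
    IsGroupLikeElem S (yy b S (fun i => f (xE b i))) := by
  rw [← push_uu]
  exact push_groupLike B f (uu_groupLike b)

/-- every group-like element comes from a point of `RepAlg` -/
lemma exists_pt_of_groupLike (g : S ⊗[k] B) (hg : IsGroupLikeElem S g) :
    ∃ f : RepAlg b →ₐ[k] S, push B f (uu b) = g := by
  have hg' : IsGroupLikeElem S
      (yy b S (fun i => (Algebra.TensorProduct.basis S b).repr g i)) := by
    rw [yy_repr]
    exact hg
  obtain ⟨h1, h2⟩ := (isGroupLikeElem_yy_iff b S _).mp hg'
  refine ⟨ptOf b S _ h1 h2, ?_⟩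
  rw [push_uu]
  have e : (fun i => ptOf b S _ h1 h2 (xE b i)) =
      fun i => (Algebra.TensorProduct.basis S b).repr g i :=
    funext fun i => ptOf_xE b S _ h1 h2 i
  rw [e, yy_repr]

theorem finitePresentation_repAlg : Algebra.FinitePresentation k (RepAlg b) := by
  apply Algebra.FinitePresentation.quotient
  exact Submodule.fg_span ((Set.finite_range _).union (Set.finite_singleton _))

theorem formallyEtale_repAlg (hB : IsMultType k B) : Algebra.FormallyEtale k (RepAlg b) := by
  rw [Algebra.FormallyEtale.iff_comp_bijective]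
  intro S _ _ I₀ hI₀
  have hnil : ∀ x ∈ I₀, IsNilpotent x := by
    intro x hx
    refine ⟨2, ?_⟩
    have h : x ^ 2 ∈ I₀ ^ 2 := Ideal.pow_mem_pow hx 2
    rw [hI₀] at h
    exact h
  have hMT : IsMultType S (S ⊗[k] B) := IsoNil.IsMultType.baseChange hB S
  constructor
  · intro f f' hff
    have hdiff : ∀ i, f (xE b i) - f' (xE b i) ∈ I₀ := by
      intro i
      have h := congrArg (fun g : RepAlg b →ₐ[k] S ⧸ I₀ => g (xE b i)) hff
      exact (Ideal.Quotient.eq (I := I₀)).mp h
    have hd := yy_sub_mem b S I₀ _ _ hdiff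
    have heq := groupLike_eq_of_nil_multType hMT I₀ hnil (groupLike_pt b S f)
      (groupLike_pt b S f') hd
    exact algHom_ext_E b S (congrFun (yy_injective b S heq))
  · intro fbar
    choose s hs using fun i => Ideal.Quotient.mk_surjective (fbar (xE b i))
    have hmk : ∀ q : MvPolynomial (Fin d) k, Ideal.Quotient.mk I₀ (MvPolynomial.aeval s q) =
        fbar (Ideal.Quotient.mk (relIdeal b) q) := by
      intro q
      have h1 := MvPolynomial.comp_aeval_apply (f := s) (Ideal.Quotient.mkₐ k I₀) q
      rw [← aeval_pt]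
      have e : (fun i => fbar (xE b i)) = fun i => Ideal.Quotient.mkₐ k I₀ (s i) :=
        funext fun i => (hs i).symm
      rw [e]
      exact h1
    have h1 : ∀ p, MvPolynomial.aeval s (relC b p) ∈ I₀ := by
      intro p
      rw [← Ideal.Quotient.eq_zero_iff_mem, hmk]
      have h0 : Ideal.Quotient.mk (relIdeal b) (relC b p) = 0 :=
        Ideal.Quotient.eq_zero_iff_mem.mpr (Ideal.subset_span (Or.inl ⟨p, rfl⟩))
      rw [h0, map_zero]
    have h2 : MvPolynomial.aeval s (relE b) ∈ I₀ := by
      rw [← Ideal.Quotient.eq_zero_iff_mem, hmk]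
      have h0 : Ideal.Quotient.mk (relIdeal b) (relE b) = 0 :=
        Ideal.Quotient.eq_zero_iff_mem.mpr (Ideal.subset_span (Or.inr rfl))
      rw [h0, map_zero]
    have hGL := glMod_yy b S I₀ s h1 h2
    obtain ⟨g, hg, hgd⟩ := exists_groupLike_lift hMT I₀ hnil hGL
    obtain ⟨s', hs'⟩ : ∃ s' : Fin d → S,
        s' = fun i => (Algebra.TensorProduct.basis S b).repr g i := ⟨_, rfl⟩
    have hys' : yy b S s' = g := by
      rw [hs']
      exact yy_repr b S g
    have hss : ∀ i, s' i - s i ∈ I₀ := by
      intro i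
      have h := repr_mem_of_mem_map b S I₀ (g - yy b S s) hgd i
      rw [map_sub, Finsupp.sub_apply, repr_yy] at h
      rw [hs']
      exact h
    have hgl' : IsGroupLikeElem S (yy b S s') := by
      rw [hys']
      exact hg
    obtain ⟨e1, e2⟩ := (isGroupLikeElem_yy_iff b S s').mp hgl'
    refine ⟨ptOf b S s' e1 e2, ?_⟩
    apply algHom_ext_E
    intro i
    show Ideal.Quotient.mk I₀ (ptOf b S s' e1 e2 (xE b i)) = fbar (xE b i)
    rw [ptOf_xE, ← hs i]
    exact (Ideal.Quotient.eq (I := I₀)).mpr (hss i)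

theorem etale_repAlg (hB : IsMultType k B) : Algebra.Etale k (RepAlg b) where
  formallyEtale := formallyEtale_repAlg b hB
  finitePresentation := finitePresentation_repAlg b

end RepAlg

end Groth.Agent.Lib.Helper6.QIso
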