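import Mathlib
import Groth.Prelude.Def_SGA3b
import Groth.Agent.Lib.Helper6.QIso.QI5
import Groth.Agent.Lib.Helper6.MultType.Field
import Groth.Agent.Lib.Helper6.Isotriv.LinIndep
import Groth.Agent.Lib.Helper6.Isotriv.Insep

/-!
# Quasi-isotriviality, part 6: a finite free group of multiplicative type is diagonalisable over
the local ring of a point of an etale algebra (helper6)
-/

set_option autoImplicit false
set_option linter.unusedSectionVars false
set_option linter.unusedVariables false
set_option linter.unusedSimpArgs false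
set_option linter.style.haveILetI false
set_option linter.overlappingInstances false
set_option maxHeartbeats 800000
set_option synthInstance.maxHeartbeats 400000

universe u
open TensorProduct SGA3b Coalgebra
open Groth.Agent.Lib.Helper6.MultType Groth.Agent.Lib.Helper6.Isotriv
open Groth.Agent.Lib.Helper6.Lift

namespace Groth.Agent.Lib.Helper6.QIso

lemma conn_of_isLocalRing (L : Type u) [CommRing L] [IsLocalRing L] :
    ∀ e : L, IsIdempotentElem e → e = 0 ∨ e = 1 := by
  intro e he
  rcases IsLocalRing.isUnit_or_isUnit_one_sub_self e with h | h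
  · right
    have h1 : e * e = e * 1 := by rw [mul_one]; exact he
    exact h.mul_left_cancel h1
  · left
    have h1 : (1 - e) * e = (1 - e) * 0 := by
      rw [mul_zero, sub_mul, one_mul, he.eq, sub_self]
    exact h.mul_left_cancel h1

section Tuple

variable {k : Type u} [CommRing k] {B : Type u} [CommRing B] [HopfAlgebra k B]
variable {d : ℕ} (b : Module.Basis (Fin d) k B)

include b in
/-- finitely many group-like elements over `K` come from an etale `k`-algebra -/
theorem exists_etale_tuple (hB : IsMultType k B) (K : Type u) [CommRing K] [Algebra k K] :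
    ∀ (n : ℕ) (y : Fin n → K ⊗[k] B), (∀ a, IsGroupLikeElem K (y a)) →
      ∃ (T : Type u) (_ : CommRing T) (_ : Algebra k T), Algebra.Etale k T ∧
        ∃ (φ : T →ₐ[k] K) (u : Fin n → T ⊗[k] B), (∀ a, IsGroupLikeElem T (u a)) ∧
          ∀ a, push B φ (u a) = y a := by
  intro n
  induction n with
  | zero =>
    intro y hy
    exact ⟨k, inferInstance, inferInstance, inferInstance, Algebra.ofId k K, Fin.elim0,
      fun a => a.elim0, fun a => a.elim0⟩
  | succ n ih =>
    intro y hy
    obtain ⟨T, _, _, hT, φ, u, hu, hφ⟩ := ih (fun a => y a.succ) (fun a => hy a.succ)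
    obtain ⟨f, hf⟩ := exists_pt_of_groupLike b K (y 0) (hy 0)
    haveI := etale_repAlg b hB
    haveI := hT
    refine ⟨RepAlg b ⊗[k] T, inferInstance, inferInstance, ?_,
      Algebra.TensorProduct.productMap f φ,
      Fin.cons (push B (Algebra.TensorProduct.includeLeft : RepAlg b →ₐ[k] RepAlg b ⊗[k] T) (uu b))
        (fun a => push B (Algebra.TensorProduct.includeRight : T →ₐ[k] RepAlg b ⊗[k] T) (u a)),
      ?_, ?_⟩
    · haveI : Algebra.Etale (RepAlg b) (RepAlg b ⊗[k] T) := inferInstance
      exact Algebra.Etale.comp k (RepAlg b) (RepAlg b ⊗[k] T)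
    · intro a
      refine Fin.cases ?_ ?_ a
      · rw [Fin.cons_zero]
        exact push_groupLike B _ (uu_groupLike b)
      · intro a'
        rw [Fin.cons_succ]
        exact push_groupLike B _ (hu a')
    · intro a
      refine Fin.cases ?_ ?_ a
      · rw [Fin.cons_zero, ← push_comp, Algebra.TensorProduct.productMap_left]
        exact hf
      · intro a'
        rw [Fin.cons_succ, ← push_comp, Algebra.TensorProduct.productMap_right]
        exact hφ a'

end Tuple

section Free

variable {k : Type u} [CommRing k] {B : Type u} [CommRing B] [HopfAlgebra k B]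
variable {d : ℕ} (b : Module.Basis (Fin d) k B)

lemma repr_push (S₁ S₂ : Type u) [CommRing S₁] [CommRing S₂] [Algebra k S₁] [Algebra k S₂]
    (f : S₁ →ₐ[k] S₂) (x : S₁ ⊗[k] B) (i : Fin d) :
    (Algebra.TensorProduct.basis S₂ b).repr (push B f x) i =
      f ((Algebra.TensorProduct.basis S₁ b).repr x i) := by
  conv_lhs => rw [← yy_repr b S₁ x, push_yy, repr_yy]

lemma det_push (S₁ S₂ : Type u) [CommRing S₁] [CommRing S₂] [Algebra k S₁] [Algebra k S₂]
    (f : S₁ →ₐ[k] S₂) (v : Fin d → S₁ ⊗[k] B) :
    (Algebra.TensorProduct.basis S₂ b).det (fun a => push B f (v a)) =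
      f ((Algebra.TensorProduct.basis S₁ b).det v) := by
  rw [Module.Basis.det_apply, Module.Basis.det_apply]
  show _ = (f : S₁ →+* S₂) (Matrix.det _)
  rw [RingHom.map_det]
  congr 1
  ext i j
  rw [RingHom.mapMatrix_apply, Matrix.map_apply, Module.Basis.toMatrix_apply,
    Module.Basis.toMatrix_apply, repr_push]
  rfl

/-- group-like elements over `T` whose images over the field `K` form a basis span over the
local ring of the corresponding point of `T` -/
theorem isDiag_local (hB : IsMultType k B) (T : Type u) [CommRing T] [Algebra k T]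
    (𝔮 : Ideal T) [𝔮.IsPrime] (K : Type u) [Field K] [Algebra k K] (φ : T →ₐ[k] K)
    (hφ : RingHom.ker (φ : T →+* K) = 𝔮) (u : Fin d → T ⊗[k] B)
    (hu : ∀ a, IsGroupLikeElem T (u a))
    (hdet : IsUnit ((Algebra.TensorProduct.basis K b).det fun a => push B φ (u a))) :
    IsDiag (Localization.AtPrime 𝔮) (Localization.AtPrime 𝔮 ⊗[k] B) := by
  classical
  have hunit : ∀ s : 𝔮.primeCompl, IsUnit (φ s) := by
    intro s
    rw [isUnit_iff_ne_zero]
    intro h0
    apply s.2
    have h1 : (s : T) ∈ RingHom.ker (φ : T →+* K) := RingHom.mem_ker.mpr h0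
    rw [hφ] at h1
    exact h1
  let ψ : Localization.AtPrime 𝔮 →ₐ[k] K :=
    IsLocalization.liftAlgHom (M := 𝔮.primeCompl) (f := φ) hunit
  have hψ : ψ.comp (IsScalarTower.toAlgHom k T (Localization.AtPrime 𝔮)) = φ := by
    apply AlgHom.ext
    intro t
    show IsLocalization.lift hunit (algebraMap T (Localization.AtPrime 𝔮) t) = φ t
    rw [IsLocalization.lift_eq]
    rfl
  obtain ⟨v, hvdef⟩ : ∃ v : Fin d → Localization.AtPrime 𝔮 ⊗[k] B, v = fun a =>
      push B (IsScalarTower.toAlgHom k T (Localization.AtPrime 𝔮)) (u a) := ⟨_, rfl⟩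
  have hv : ∀ a, IsGroupLikeElem (Localization.AtPrime 𝔮) (v a) := by
    intro a
    rw [hvdef]
    exact push_groupLike B _ (hu a)
  have hpv : ∀ a, push B ψ (v a) = push B φ (u a) := by
    intro a
    rw [hvdef, ← push_comp, hψ]
  have hδ : ψ ((Algebra.TensorProduct.basis (Localization.AtPrime 𝔮) b).det v) =
      (Algebra.TensorProduct.basis K b).det (fun a => push B φ (u a)) := by
    rw [← det_push b (Localization.AtPrime 𝔮) K ψ v]
    congr 1
    funext a
    exact hpv a
  have hunitδ : IsUnit ((Algebra.TensorProduct.basis (Localization.AtPrime 𝔮) b).det v) := by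
    obtain ⟨t, s, hts⟩ := IsLocalization.exists_mk'_eq 𝔮.primeCompl
      ((Algebra.TensorProduct.basis (Localization.AtPrime 𝔮) b).det v)
    rw [← hts, IsLocalization.AtPrime.isUnit_mk'_iff (Localization.AtPrime 𝔮) 𝔮]
    intro ht
    have h0 : φ t = 0 := by
      rw [← hφ] at ht
      exact ht
    have h1 : ψ (IsLocalization.mk' (Localization.AtPrime 𝔮) t s) * φ s = φ t := by
      have h2 := congrArg ψ (IsLocalization.mk'_spec (Localization.AtPrime 𝔮) t s)
      rw [map_mul] at h2
      have e1 : ψ (algebraMap T (Localization.AtPrime 𝔮) (s : T)) = φ s := AlgHom.congr_fun hψ s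
      have e2 : ψ (algebraMap T (Localization.AtPrime 𝔮) t) = φ t := AlgHom.congr_fun hψ t
      rw [e1, e2] at h2
      exact h2
    rw [hts, hδ, h0] at h1
    exact (hdet.mul (hunit s)).ne_zero h1
  have hbasis := ((Algebra.TensorProduct.basis (Localization.AtPrime 𝔮) b).is_basis_iff_det
    (v := v)).mpr hunitδ
  have hspan : Submodule.span (Localization.AtPrime 𝔮)
      {x : Localization.AtPrime 𝔮 ⊗[k] B | IsGroupLikeElem (Localization.AtPrime 𝔮) x} = ⊤ := by
    rw [eq_top_iff, ← hbasis.2]
    apply Submodule.span_mono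
    rintro _ ⟨a, rfl⟩
    exact hv a
  exact isDiag_of_span_groupLike_of_connected (conn_of_isLocalRing (Localization.AtPrime 𝔮))
    (IsoNil.IsMultType.baseChange hB (Localization.AtPrime 𝔮)) hspan

include b in
/-- A finite free group of multiplicative type becomes diagonalisable over the local ring of a
suitable point, above a given prime, of an etale algebra. -/
theorem exists_etale_isDiag_local_of_free (hB : IsMultType k B) (𝔭 : Ideal k) [𝔭.IsPrime] :
    ∃ (T : Type u) (_ : CommRing T) (_ : Algebra k T), Algebra.Etale k T ∧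
      ∃ (𝔮 : Ideal T) (_ : 𝔮.IsPrime), 𝔮.comap (algebraMap k T) = 𝔭 ∧
        IsDiag (Localization.AtPrime 𝔮) (Localization.AtPrime 𝔮 ⊗[k] B) := by
  classical
  have hκ : IsMultType 𝔭.ResidueField (𝔭.ResidueField ⊗[k] B) :=
    IsoNil.IsMultType.baseChange hB _
  obtain ⟨K, _, _, hdK⟩ := IsMultType.exists_field_chart hκ
  letI algkK : Algebra k K :=
    ((algebraMap 𝔭.ResidueField K).comp (algebraMap k 𝔭.ResidueField)).toAlgebra
  haveI : IsScalarTower k 𝔭.ResidueField K := IsScalarTower.of_algebraMap_eq' rfl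
  have hdK' : IsDiag K (K ⊗[k] B) := IsDiag.of_tower 𝔭.ResidueField K hdK
  have hker : RingHom.ker (algebraMap k K) = 𝔭 := by
    ext x
    rw [RingHom.mem_ker]
    show algebraMap 𝔭.ResidueField K (algebraMap k 𝔭.ResidueField x) = 0 ↔ _
    rw [map_eq_zero_iff _ (algebraMap 𝔭.ResidueField K).injective,
      Ideal.algebraMap_residueField_eq_zero]
  have hs : ⊤ ≤ Submodule.span K {x : K ⊗[k] B | IsGroupLikeElem K x} :=
    (span_groupLike_eq_top_of_isDiag hdK').ge
  obtain ⟨y, hy, hdet⟩ : ∃ y : Fin d → K ⊗[k] B, (∀ a, IsGroupLikeElem K (y a)) ∧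
      IsUnit ((Algebra.TensorProduct.basis K b).det y) := by
    let bG := Module.Basis.ofSpan hs
    let σ := (Algebra.TensorProduct.basis K b).indexEquiv bG
    refine ⟨fun a => bG (σ a), fun a => Module.Basis.ofSpan_subset hs ⟨σ a, rfl⟩, ?_⟩
    have h := (Algebra.TensorProduct.basis K b).isUnit_det (bG.reindex σ.symm)
    have e : (⇑(bG.reindex σ.symm) : Fin d → K ⊗[k] B) = fun a => bG (σ a) := by
      funext a
      rw [Module.Basis.reindex_apply, Equiv.symm_symm]
    rw [e] at h
    exact h
  obtain ⟨T, _, _, hT, φ, u, hu, hφ⟩ := exists_etale_tuple b hB K d y hy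
  obtain ⟨𝔮, h𝔮def⟩ : ∃ 𝔮 : Ideal T, 𝔮 = RingHom.ker (φ : T →+* K) := ⟨_, rfl⟩
  haveI h𝔮 : 𝔮.IsPrime := h𝔮def ▸ RingHom.ker_isPrime _
  refine ⟨T, inferInstance, inferInstance, hT, 𝔮, h𝔮, ?_, ?_⟩
  · rw [h𝔮def, RingHom.comap_ker, ← hker]
    congr 1
    exact φ.comp_algebraMap
  · apply isDiag_local b hB T 𝔮 K φ h𝔮def.symm u hu
    have e : (fun a => push B φ (u a)) = y := funext hφ
    rw [e]
    exact hdet

end Free

end Groth.Agent.Lib.Helper6.QIso
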