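import Mathlib
import Groth.Prelude.Def_SGA3b
import Groth.Agent.Lib.Helper6.QIso.QI6

/-!
# Quasi-isotriviality, part 7: finite locally free groups of multiplicative type; local
faithfully flat covers (helper6)
-/

set_option autoImplicit false
set_option linter.unusedSectionVars false
set_option linter.unusedVariables false
set_option linter.unusedSimpArgs false
set_option linter.style.haveILetI false
set_option linter.overlappingInstances false
set_option maxHeartbeats 800000
set_option synthInstance.maxHeartbeats 400000

universe u
open TensorProduct SGA3b Coalgebra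
open Groth.Agent.Lib.Helper6.MultType Groth.Agent.Lib.Helper6.Isotriv

namespace Groth.Agent.Lib.Helper6.QIso

section Finite

variable {R : Type u} [CommRing R] {B : Type u} [CommRing B] [HopfAlgebra R B]

/-- A finite locally free group of multiplicative type becomes diagonalisable over the local ring
of a suitable point, above a given prime, of an etale algebra. -/
theorem exists_etale_isDiag_local [Module.Finite R B] [Module.Flat R B]
    [Module.FinitePresentation R B] (hB : IsMultType R B) (𝔭 : Ideal R) [𝔭.IsPrime] :
    ∃ (T : Type u) (_ : CommRing T) (_ : Algebra R T), Algebra.Etale R T ∧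
      ∃ (𝔮 : Ideal T) (_ : 𝔮.IsPrime), 𝔮.comap (algebraMap R T) = 𝔭 ∧
        IsDiag (Localization.AtPrime 𝔮) (Localization.AtPrime 𝔮 ⊗[R] B) := by
  haveI : Module.Free (Localization.AtPrime 𝔭) (LocalizedModule 𝔭.primeCompl B) :=
    Module.free_of_flat_of_isLocalRing
  obtain ⟨r, hr, hfree, -⟩ := Module.FinitePresentation.exists_free_localizedModule_powers
    𝔭.primeCompl (LocalizedModule.mkLinearMap 𝔭.primeCompl B) (Localization.AtPrime 𝔭)
  have hbc := IsLocalizedModule.isBaseChange (Submonoid.powers r) (Localization.Away r)
    (LocalizedModule.mkLinearMap (Submonoid.powers r) B)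
  haveI := hfree
  haveI hfree' : Module.Free (Localization.Away r) (Localization.Away r ⊗[R] B) :=
    Module.Free.of_equiv hbc.equiv.symm
  have hdisj : Disjoint (Submonoid.powers r : Set R) (𝔭 : Set R) := by
    rw [Set.disjoint_left]
    rintro x ⟨n, rfl⟩ hx
    exact hr (Ideal.IsPrime.mem_of_pow_mem inferInstance n hx)
  haveI h𝔭r : (Ideal.map (algebraMap R (Localization.Away r)) 𝔭).IsPrime :=
    IsLocalization.isPrime_of_isPrime_disjoint (Submonoid.powers r) _ 𝔭 inferInstance hdisj
  haveI : Nontrivial (Localization.Away r) := by
    by_contra h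
    rw [not_nontrivial_iff_subsingleton] at h
    apply h𝔭r.ne_top
    apply Ideal.eq_top_of_isUnit_mem _ (Ideal.zero_mem _)
    rw [Subsingleton.elim (0 : Localization.Away r) 1]
    exact isUnit_one
  let b := Module.finBasis (Localization.Away r) (Localization.Away r ⊗[R] B)
  have hB' : IsMultType (Localization.Away r) (Localization.Away r ⊗[R] B) :=
    IsoNil.IsMultType.baseChange hB _
  obtain ⟨T, _, _, hT, 𝔮, h𝔮, hcomap, hd⟩ := exists_etale_isDiag_local_of_free b hB'
    (Ideal.map (algebraMap R (Localization.Away r)) 𝔭)
  letI algRT : Algebra R T :=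
    ((algebraMap (Localization.Away r) T).comp (algebraMap R (Localization.Away r))).toAlgebra
  haveI tw : IsScalarTower R (Localization.Away r) T := IsScalarTower.of_algebraMap_eq' rfl
  haveI := hT
  refine ⟨T, inferInstance, algRT, Algebra.Etale.comp R (Localization.Away r) T, 𝔮, h𝔮, ?_, ?_⟩
  · have e : 𝔮.comap (algebraMap R T) = (𝔮.comap (algebraMap (Localization.Away r) T)).comap
        (algebraMap R (Localization.Away r)) := rfl
    rw [e, hcomap]
    exact IsLocalization.under_map_of_isPrime_disjoint (Submonoid.powers r) _ inferInstance hdisj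
  · haveI : IsScalarTower R (Localization.Away r) (Localization.AtPrime 𝔮) := by
      refine IsScalarTower.of_algebraMap_eq (fun x => ?_)
      rw [IsScalarTower.algebraMap_apply R T (Localization.AtPrime 𝔮),
        IsScalarTower.algebraMap_apply (Localization.Away r) T (Localization.AtPrime 𝔮)]
      rfl
    exact IsDiag.of_tower (Localization.Away r) (Localization.AtPrime 𝔮) hd

end Finite

section LocalCover

attribute [local instance] Algebra.TensorProduct.rightAlgebra

/-- a local faithfully flat `L`-algebra which is also an `R'`-algebra -/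
theorem exists_local_cover (R R' L : Type u) [CommRing R] [CommRing R'] [CommRing L]
    [Algebra R R'] [Algebra R L] [Module.FaithfullyFlat R R'] [IsLocalRing L] :
    ∃ (L' : Type u) (_ : CommRing L') (_ : Algebra R L') (_ : Algebra L L') (_ : Algebra R' L'),
      IsScalarTower R L L' ∧ IsScalarTower R R' L' ∧ Module.FaithfullyFlat L L' ∧
        IsLocalRing L' := by
  obtain ⟨𝔫, h𝔫, hover⟩ := Ideal.exists_isPrime_liesOver_of_faithfullyFlat
    (A := L) (B := L ⊗[R] R') (IsLocalRing.maximalIdeal L)
  refine ⟨Localization.AtPrime 𝔫, inferInstance, inferInstance, inferInstance, inferInstance,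
    ?_, ?_, ?_, inferInstance⟩
  · refine IsScalarTower.of_algebraMap_eq (fun x => ?_)
    rw [IsScalarTower.algebraMap_apply R (L ⊗[R] R') (Localization.AtPrime 𝔫),
      IsScalarTower.algebraMap_apply L (L ⊗[R] R') (Localization.AtPrime 𝔫),
      IsScalarTower.algebraMap_apply R L (L ⊗[R] R')]
  · refine IsScalarTower.of_algebraMap_eq (fun x => ?_)
    rw [IsScalarTower.algebraMap_apply R (L ⊗[R] R') (Localization.AtPrime 𝔫),
      IsScalarTower.algebraMap_apply R' (L ⊗[R] R') (Localization.AtPrime 𝔫),
      IsScalarTower.algebraMap_apply R R' (L ⊗[R] R')]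
  · haveI : Module.Flat L (Localization.AtPrime 𝔫) :=
      Module.Flat.trans L (L ⊗[R] R') (Localization.AtPrime 𝔫)
    haveI : IsLocalHom (algebraMap L (Localization.AtPrime 𝔫)) := by
      constructor
      intro x hx
      rw [IsScalarTower.algebraMap_apply L (L ⊗[R] R') (Localization.AtPrime 𝔫),
        IsLocalization.AtPrime.isUnit_to_map_iff (Localization.AtPrime 𝔫) 𝔫] at hx
      by_contra hnu
      apply hx
      have hxm : x ∈ IsLocalRing.maximalIdeal L := (IsLocalRing.mem_maximalIdeal x).mpr hnu
      rw [hover.over] at hxm
      exact hxm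
    exact Module.FaithfullyFlat.of_flat_of_isLocalHom

end LocalCover

end Groth.Agent.Lib.Helper6.QIso
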