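import Mathlib
import Groth.Prelude.Def_SGA3b
import Groth.Agent.Lib.Helper6.QIso.QI7
import Groth.Agent.Lib.Helper6.QIso.QI12
import Groth.Agent.Lib.Helper6.TorsDense.TD1
import Groth.Agent.Lib.Helper6.Isotriv.Torsion

/-!
# Quasi-isotriviality, part 13: étale-local diagonalisability near a prime, given a chart (helper6)
-/

set_option autoImplicit false
set_option linter.unusedSectionVars false
set_option linter.unusedVariables false
set_option linter.unusedSimpArgs false
set_option linter.style.haveILetI false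
set_option linter.overlappingInstances false
set_option maxHeartbeats 800000
set_option synthInstance.maxHeartbeats 400000

universe u
open TensorProduct SGA3b Coalgebra
open Groth.Agent.Lib.Helper6.MultType Groth.Agent.Lib.Helper6.Isotriv

namespace Groth.Agent.Lib.Helper6.QIso

section CorePrime

variable {R : Type u} [CommRing R] {A : Type u} [CommRing A] [HopfAlgebra R A]

/-- A group of multiplicative type and of finite type which becomes diagonalisable over one
faithfully flat algebra becomes diagonalisable over an étale algebra hitting a given prime. -/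
theorem exists_etale_isDiag_of_chart (hft : Algebra.FiniteType R A) (hMT : IsMultType R A)
    {R' : Type u} [CommRing R'] [Algebra R R'] [Module.FaithfullyFlat R R']
    {M : Type u} [CommGroup M] (φ : R' ⊗[R] A ≃ₐc[R'] MonoidAlgebra R' M)
    (𝔭 : Ideal R) [h𝔭 : 𝔭.IsPrime] :
    ∃ (T : Type u) (_ : CommRing T) (_ : Algebra R T), Algebra.Etale R T ∧
      (∃ (𝔮 : Ideal T) (_ : 𝔮.IsPrime), 𝔮.comap (algebraMap R T) = 𝔭) ∧
        IsDiag T (T ⊗[R] A) := by
  classical
  haveI : Nontrivial R :=
    ⟨⟨0, 1, fun h => h𝔭.ne_top ((Ideal.eq_top_iff_one _).mpr (h ▸ 𝔭.zero_mem))⟩⟩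
  haveI : Nontrivial R' := (FaithfulSMul.algebraMap_injective R R').nontrivial
  haveI : Module.Flat R A := flat_of_chart φ
  haveI : Coalgebra.IsCocomm R A := isCocomm_of_chart φ
  have hM : Group.FG M := fg_of_chart φ hft
  haveI : Algebra.FinitePresentation R A := finitePresentation_of_chart φ hM
  -- a finite generating set
  obtain ⟨F, hF⟩ := Monoid.fg_def.mp (Group.fg_iff_monoid_fg.mp hM)
  -- the differences to be separated
  obtain ⟨D, hDdef⟩ : ∃ D : Finset (Additive M), D = F.biUnion (fun m =>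
      ((xi0 φ m).coeff.support.filter (fun a => a ≠ m)).image
        (fun a => Additive.ofMul (a⁻¹ * m))) := ⟨_, rfl⟩
  have hD : ∀ d ∈ D, d ≠ 0 := by
    intro d hd
    rw [hDdef, Finset.mem_biUnion] at hd
    obtain ⟨m, hm, hd⟩ := hd
    rw [Finset.mem_image] at hd
    obtain ⟨a, ha, rfl⟩ := hd
    rw [Finset.mem_filter] at ha
    intro h0
    have h1 : a⁻¹ * m = 1 := h0
    rw [inv_mul_eq_one] at h1
    exact ha.2 h1
  haveI : AddGroup.FG (Additive M) := GroupFG.iff_add_fg.mp hM
  obtain ⟨n, hn, -, hnD⟩ := TorsDense.exists_forall_not_mem_smul (p := 0) (Or.inl rfl)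
    (fun h => absurd h Nat.not_prime_zero) D hD
  have hsep : ∀ m ∈ (F : Set M), ∀ a ∈ (xi0 φ m).coeff.support, a ≠ m →
      QuotientGroup.mk' (powMonoidHom n : M →* M).range a ≠
        QuotientGroup.mk' (powMonoidHom n : M →* M).range m := by
    intro m hm a ha hne heq
    have h1 : a⁻¹ * m ∈ (powMonoidHom n : M →* M).range :=
      (QuotientGroup.eq (s := (powMonoidHom n : M →* M).range) (a := a) (b := m)).mp heq
    obtain ⟨g, hg⟩ := h1
    have h2 : Additive.ofMul (a⁻¹ * m) ∈ D := by
      rw [hDdef, Finset.mem_biUnion]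
      refine ⟨m, hm, ?_⟩
      rw [Finset.mem_image]
      exact ⟨a, Finset.mem_filter.mpr ⟨ha, hne⟩, rfl⟩
    apply hnD _ h2 (Additive.ofMul g)
    show Additive.ofMul (g ^ n) = _
    have h3 : g ^ n = a⁻¹ * m := hg
    rw [h3]
  haveI := torsionIdeal_isHopfIdeal (R := R) (A := A) n
  -- the torsion quotient
  obtain ⟨hBMT, hBfin⟩ :=
    Isotriv.torsion_isMultType_and_finite hft hMT n hn (torsionIdeal R A n) rfl
  haveI := hBfin
  have hBd : IsDiag R' (R' ⊗[R] (A ⧸ torsionIdeal R A n)) :=
    Isotriv.isDiag_quotient_torsion n (torsionIdeal R A n) rfl R' ⟨M, inferInstance, ⟨φ⟩⟩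
  obtain ⟨N, _, ⟨φB⟩⟩ := hBd
  haveI : Module.Flat R (A ⧸ torsionIdeal R A n) := flat_of_chart φB
  have hftB : Algebra.FiniteType R (A ⧸ torsionIdeal R A n) :=
    hft.of_surjective (Ideal.Quotient.mkₐ R (torsionIdeal R A n))
      (Ideal.Quotient.mkₐ_surjective R (torsionIdeal R A n))
  have hN : Group.FG N := fg_of_chart φB hftB
  haveI : Algebra.FinitePresentation R (A ⧸ torsionIdeal R A n) :=
    finitePresentation_of_chart φB hN
  haveI : Module.FinitePresentation R (A ⧸ torsionIdeal R A n) :=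
    Module.FinitePresentation.of_finite_of_finitePresentation R _
  obtain ⟨T₀, _, _, hT₀, 𝔮, h𝔮, hcomap, hdL⟩ := exists_etale_isDiag_local hBMT 𝔭
  -- a local faithfully flat cover of the local ring which is an `R'`-algebra
  obtain ⟨L', _, _, _, _, tw1, tw2, hff, hloc⟩ :=
    exists_local_cover R R' (Localization.AtPrime 𝔮)
  obtain ⟨e⟩ := exists_chart_of_torsion φ n (Localization.AtPrime 𝔮) L'
    (conn_of_isLocalRing L') hdL (F : Set M) hF hsep
  -- spreading out
  obtain ⟨T', _, _, _, _, t1, t2, het, hd⟩ := good_of_chart (R := R) (T₁ := T₀)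
    (L := Localization.AtPrime 𝔮) 𝔮.primeCompl e hM
  haveI := hT₀
  refine ⟨T', inferInstance, inferInstance, Algebra.Etale.comp R T₀ T',
    ⟨(IsLocalRing.maximalIdeal (Localization.AtPrime 𝔮)).comap
      (algebraMap T' (Localization.AtPrime 𝔮)), inferInstance, ?_⟩, hd⟩
  have h1 : ((IsLocalRing.maximalIdeal (Localization.AtPrime 𝔮)).comap
      (algebraMap T' (Localization.AtPrime 𝔮))).comap (algebraMap T₀ T') = 𝔮 := by
    rw [Ideal.comap_comap, ← IsScalarTower.algebraMap_eq T₀ T' (Localization.AtPrime 𝔮)]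
    exact IsLocalization.AtPrime.comap_maximalIdeal (Localization.AtPrime 𝔮) 𝔮
  rw [IsScalarTower.algebraMap_eq R T₀ T', ← Ideal.comap_comap, h1, hcomap]

end CorePrime

end Groth.Agent.Lib.Helper6.QIso
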