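import Mathlib
import Groth.Prelude.Def_SGA3b
import Groth.Agent.Lib.Helper6.QIso.QI13
import Groth.Agent.Lib.Helper6.IsoNil.IN1

/-!
# Quasi-isotriviality, part 14: groups of multiplicative type and of finite type are
quasi-isotrivial (helper6)
-/

set_option autoImplicit false
set_option linter.unusedSectionVars false
set_option linter.unusedVariables false
set_option linter.unusedSimpArgs false
set_option linter.style.haveILetI false
set_option linter.overlappingInstances false
set_option maxHeartbeats 800000
set_option synthInstance.maxHeartbeats 400000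

universe u
open TensorProduct SGA3b Coalgebra
open Groth.Agent.Lib.Helper6.MultType Groth.Agent.Lib.Helper6.Isotriv

namespace Groth.Agent.Lib.Helper6.QIso

section Main

variable {R : Type u} [CommRing R] {A : Type u} [CommRing A] [HopfAlgebra R A]

/-- A group of multiplicative type and of finite type becomes diagonalisable over an étale
algebra hitting a given prime. -/
theorem exists_etale_isDiag_prime (hft : Algebra.FiniteType R A) (h : IsMultType R A)
    (𝔭 : Ideal R) [h𝔭 : 𝔭.IsPrime] :
    ∃ (T : Type u) (_ : CommRing T) (_ : Algebra R T), Algebra.Etale R T ∧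
      (∃ (𝔮 : Ideal T) (_ : 𝔮.IsPrime), 𝔮.comap (algebraMap R T) = 𝔭) ∧
        IsDiag T (T ⊗[R] A) := by
  have h0 := h
  obtain ⟨s, hs, H⟩ := h
  obtain ⟨g, hgs, hg𝔭⟩ : ∃ g ∈ s, g ∉ 𝔭 := by
    by_contra hcon
    push Not at hcon
    have h1 : Ideal.span s ≤ 𝔭 := Ideal.span_le.mpr hcon
    rw [hs] at h1
    exact h𝔭.ne_top (top_le_iff.mp h1)
  obtain ⟨R', _, _, hff, hd⟩ := H g hgs
  obtain ⟨M, _, ⟨φ⟩⟩ := hd
  haveI := hff
  have hdisj : Disjoint (Submonoid.powers g : Set R) (𝔭 : Set R) := by
    rw [Set.disjoint_left]
    rintro x ⟨n, rfl⟩ hx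
    exact hg𝔭 (Ideal.IsPrime.mem_of_pow_mem inferInstance n hx)
  haveI h𝔭g : (Ideal.map (algebraMap R (Localization.Away g)) 𝔭).IsPrime :=
    IsLocalization.isPrime_of_isPrime_disjoint (Submonoid.powers g) _ 𝔭 inferInstance hdisj
  have hMT' : IsMultType (Localization.Away g) (Localization.Away g ⊗[R] A) :=
    IsoNil.IsMultType.baseChange h0 _
  haveI := hft
  have hft' : Algebra.FiniteType (Localization.Away g) (Localization.Away g ⊗[R] A) :=
    inferInstance
  obtain ⟨T, _, _, hT, ⟨𝔮, h𝔮, hcomap⟩, hdT⟩ := exists_etale_isDiag_of_chart hft' hMT' φ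
    (Ideal.map (algebraMap R (Localization.Away g)) 𝔭)
  letI algRT : Algebra R T :=
    ((algebraMap (Localization.Away g) T).comp (algebraMap R (Localization.Away g))).toAlgebra
  haveI tw : IsScalarTower R (Localization.Away g) T := IsScalarTower.of_algebraMap_eq' rfl
  haveI := hT
  refine ⟨T, inferInstance, algRT, Algebra.Etale.comp R (Localization.Away g) T,
    ⟨𝔮, h𝔮, ?_⟩, ?_⟩
  · have e : 𝔮.comap (algebraMap R T) = (𝔮.comap (algebraMap (Localization.Away g) T)).comap
        (algebraMap R (Localization.Away g)) := rfl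
    rw [e, hcomap]
    exact IsLocalization.under_map_of_isPrime_disjoint (Submonoid.powers g) _ inferInstance hdisj
  · exact IsDiag.of_tower (Localization.Away g) T hdT

/-- If `A` becomes diagonalisable over an étale algebra whose image in the spectrum contains
`D(f)`, then `A` is quasi-isotrivial of constant type over `D(f)`. -/
theorem isQuasiIsotrivialConst_away {T : Type u} [CommRing T] [Algebra R T] [Algebra.Etale R T]
    (hdT : IsDiag T (T ⊗[R] A)) (f : R)
    (hfU : ∀ 𝔭 : PrimeSpectrum R, f ∉ 𝔭.asIdeal →
      𝔭 ∈ Set.range (PrimeSpectrum.comap (algebraMap R T))) :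
    IsQuasiIsotrivialConst (Localization.Away f) (Localization.Away f ⊗[R] A) := by
  have hu : IsUnit (algebraMap R (Localization.Away (algebraMap R T f)) f) := by
    rw [IsScalarTower.algebraMap_apply R T (Localization.Away (algebraMap R T f))]
    exact IsLocalization.Away.algebraMap_isUnit (algebraMap R T f)
  letI alg : Algebra (Localization.Away f) (Localization.Away (algebraMap R T f)) :=
    (IsLocalization.Away.lift (S := Localization.Away f) f hu).toAlgebra
  haveI tw1 : IsScalarTower R (Localization.Away f) (Localization.Away (algebraMap R T f)) :=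
    IsScalarTower.of_algebraMap_eq (fun r => (IsLocalization.Away.lift_eq f hu r).symm)
  haveI het0 : Algebra.Etale R (Localization.Away (algebraMap R T f)) :=
    Algebra.Etale.comp R T (Localization.Away (algebraMap R T f))
  haveI het : Algebra.Etale (Localization.Away f) (Localization.Away (algebraMap R T f)) :=
    Algebra.Etale.of_restrictScalars R (Localization.Away f)
      (Localization.Away (algebraMap R T f))
  refine ⟨Localization.Away (algebraMap R T f), inferInstance, alg, het, ?_, ?_⟩
  · -- faithfully flat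
    haveI : Module.Flat (Localization.Away f) (Localization.Away (algebraMap R T f)) :=
      inferInstance
    apply Module.FaithfullyFlat.of_comap_surjective
    intro P
    have key : ∀ I J : Ideal (Localization.Away f),
        I.comap (algebraMap R (Localization.Away f)) =
          J.comap (algebraMap R (Localization.Away f)) → I = J := by
      intro I J hIJ
      rw [← IsLocalization.map_under (Submonoid.powers f) (Localization.Away f) I,
        ← IsLocalization.map_under (Submonoid.powers f) (Localization.Away f) J,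
        Ideal.under_def, Ideal.under_def, hIJ]
    obtain ⟨𝔭', h𝔭'⟩ : ∃ 𝔭' : PrimeSpectrum R,
        𝔭' = PrimeSpectrum.comap (algebraMap R (Localization.Away f)) P := ⟨_, rfl⟩
    have hf𝔭' : f ∉ 𝔭'.asIdeal := by
      intro hmem
      rw [h𝔭'] at hmem
      have h1 : algebraMap R (Localization.Away f) f ∈ P.asIdeal := hmem
      exact P.isPrime.ne_top
        (Ideal.eq_top_of_isUnit_mem _ h1 (IsLocalization.Away.algebraMap_isUnit f))
    obtain ⟨Q₀, hQ₀⟩ := hfU 𝔭' hf𝔭'
    have hQ₀' : Q₀.asIdeal.comap (algebraMap R T) = 𝔭'.asIdeal := by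
      rw [← hQ₀]
      rfl
    have hfQ₀ : algebraMap R T f ∉ Q₀.asIdeal := by
      intro hmem
      apply hf𝔭'
      rw [← hQ₀']
      exact hmem
    have hdisj : Disjoint (Submonoid.powers (algebraMap R T f) : Set T)
        (Q₀.asIdeal : Set T) := by
      rw [Set.disjoint_left]
      rintro x ⟨k, rfl⟩ hx
      exact hfQ₀ (Q₀.isPrime.mem_of_pow_mem k hx)
    have hQprime : (Ideal.map (algebraMap T (Localization.Away (algebraMap R T f)))
        Q₀.asIdeal).IsPrime :=
      IsLocalization.isPrime_of_isPrime_disjoint (Submonoid.powers (algebraMap R T f)) _ _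
        Q₀.isPrime hdisj
    have hQunder : (Ideal.map (algebraMap T (Localization.Away (algebraMap R T f)))
        Q₀.asIdeal).comap (algebraMap T (Localization.Away (algebraMap R T f))) = Q₀.asIdeal :=
      IsLocalization.under_map_of_isPrime_disjoint (Submonoid.powers (algebraMap R T f)) _
        Q₀.isPrime hdisj
    refine ⟨⟨_, hQprime⟩, ?_⟩
    apply PrimeSpectrum.ext
    apply key
    show Ideal.comap (algebraMap R (Localization.Away f))
      (Ideal.comap (algebraMap (Localization.Away f) (Localization.Away (algebraMap R T f)))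
        (Ideal.map (algebraMap T (Localization.Away (algebraMap R T f))) Q₀.asIdeal)) =
      Ideal.comap (algebraMap R (Localization.Away f)) P.asIdeal
    rw [Ideal.comap_comap, ← IsScalarTower.algebraMap_eq R (Localization.Away f)
      (Localization.Away (algebraMap R T f)),
      IsScalarTower.algebraMap_eq R T (Localization.Away (algebraMap R T f)),
      ← Ideal.comap_comap, hQunder, hQ₀', h𝔭']
    rfl
  · have d1 : IsDiag (Localization.Away (algebraMap R T f))
        (Localization.Away (algebraMap R T f) ⊗[R] A) :=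
      IsDiag.of_tower T _ (IsDiag.baseChange hdT _)
    exact IsDiag.to_tower (Localization.Away f) _ d1

/-- **SGA 3, X 4.5.** A group of multiplicative type and of finite type is quasi-isotrivial. -/
theorem isQuasiIsotrivial_of_finiteType (hft : Algebra.FiniteType R A) (h : IsMultType R A) :
    IsQuasiIsotrivial R A := by
  refine ⟨{f | IsQuasiIsotrivialConst (Localization.Away f) (Localization.Away f ⊗[R] A)}, ?_,
    fun f hf => hf⟩
  by_contra hne
  obtain ⟨𝔪, h𝔪, hle⟩ := Ideal.exists_le_maximal _ hne
  haveI := h𝔪.isPrime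
  obtain ⟨T, _, _, hT, ⟨𝔮, h𝔮, hcomap⟩, hdT⟩ := exists_etale_isDiag_prime hft h 𝔪
  haveI := hT
  have hopen : IsOpenMap (PrimeSpectrum.comap (algebraMap R T)) :=
    PrimeSpectrum.isOpenMap_comap_of_hasGoingDown_of_finitePresentation
  have hU : IsOpen (Set.range (PrimeSpectrum.comap (algebraMap R T))) := hopen.isOpen_range
  have hmem : (⟨𝔪, inferInstance⟩ : PrimeSpectrum R) ∈
      Set.range (PrimeSpectrum.comap (algebraMap R T)) :=
    ⟨⟨𝔮, h𝔮⟩, PrimeSpectrum.ext hcomap⟩
  obtain ⟨_, ⟨f, rfl⟩, hfm, hfU⟩ :=
    PrimeSpectrum.isTopologicalBasis_basic_opens.exists_subset_of_mem_open hmem hU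
  have hf𝔪 : f ∉ 𝔪 := hfm
  apply hf𝔪
  apply hle
  apply Ideal.subset_span
  show IsQuasiIsotrivialConst (Localization.Away f) (Localization.Away f ⊗[R] A)
  exact isQuasiIsotrivialConst_away hdT f (fun 𝔭 h𝔭 => hfU h𝔭)

end Main

end Groth.Agent.Lib.Helper6.QIso
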