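import Mathlib
import Groth.Prelude.Def_SGA3b
import Groth.Agent.Lib.Helper6.QIso.QI14
import Groth.Agent.Lib.Helper7.Hensel.QuasiFiniteSplit

/-!
# Quasi-isotriviality, part 15: over a henselian local ring, groups of multiplicative type and of
finite type are isotrivial (helper6)
-/

set_option autoImplicit false
set_option linter.unusedSectionVars false
set_option linter.unusedVariables false
set_option linter.unusedSimpArgs false
set_option linter.style.haveILetI false
set_option linter.overlappingInstances false
set_option maxHeartbeats 800000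
set_option synthInstance.maxHeartbeats 400000

universe u
open TensorProduct SGA3b Coalgebra
open Groth.Agent.Lib.Helper6.MultType Groth.Agent.Lib.Helper6.Isotriv

namespace Groth.Agent.Lib.Helper6.QIso

section Hens

variable {R : Type u} [CommRing R] {A : Type u} [CommRing A] [HopfAlgebra R A]

/-- **SGA 3, X 4.6.** Over a henselian local ring, a group of multiplicative type and of finite
type is isotrivial. -/
theorem isIsotrivial_of_henselian [HenselianLocalRing R] (hft : Algebra.FiniteType R A)
    (h : IsMultType R A) : IsIsotrivial R A := by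
  classical
  obtain ⟨T, _, _, hT, ⟨𝔮, h𝔮, hcomap⟩, hdT⟩ :=
    exists_etale_isDiag_prime hft h (IsLocalRing.maximalIdeal R)
  haveI := hT
  have hqf : ∀ (p : Ideal T) [p.IsPrime], Algebra.QuasiFiniteAt R p := fun p _ => inferInstance
  obtain ⟨e, he, hfin, hF⟩ := Groth.Agent.Helper7.Hensel.exists_idempotent_split R T
    {(⟨𝔮, h𝔮⟩ : PrimeSpectrum T)} (by
      intro p _
      exact hqf p.asIdeal)
  have he𝔮 : e ∉ 𝔮 := by
    refine hF ⟨𝔮, h𝔮⟩ (Finset.mem_singleton_self _) ?_
    rw [Ideal.map_le_iff_le_comap, hcomap]
  have h1e : 1 - e ∈ 𝔮 := by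
    have h0 : e * (1 - e) ∈ 𝔮 := by
      have : e * (1 - e) = 0 := by
        rw [mul_sub, mul_one, he.eq, sub_self]
      rw [this]
      exact 𝔮.zero_mem
    exact (h𝔮.mem_or_mem h0).resolve_left he𝔮
  haveI hloc : IsLocalization.Away e (T ⧸ Ideal.span {1 - e}) :=
    IsLocalization.Away.quotient_of_isIdempotentElem he
  haveI het1 : Algebra.Etale T (T ⧸ Ideal.span {1 - e}) := Algebra.Etale.of_isLocalizationAway e
  haveI het : Algebra.Etale R (T ⧸ Ideal.span {1 - e}) :=
    Algebra.Etale.comp R T (T ⧸ Ideal.span {1 - e})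
  refine ⟨T ⧸ Ideal.span {1 - e}, inferInstance, inferInstance, het, hfin, ?_, ?_⟩
  · haveI := hfin
    haveI : Module.Flat R (T ⧸ Ideal.span {1 - e}) := inferInstance
    haveI : Nontrivial (T ⧸ Ideal.span {1 - e}) := by
      apply Ideal.Quotient.nontrivial_iff.mpr
      intro htop
      apply h𝔮.ne_top
      rw [eq_top_iff, ← htop, Ideal.span_le]
      intro x hx
      rw [Set.mem_singleton_iff] at hx
      rw [hx]
      exact h1e
    haveI : Module.Free R (T ⧸ Ideal.span {1 - e}) := Module.free_of_flat_of_isLocalRing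
    infer_instance
  · exact IsoNil.isDiag_transfer (Ideal.Quotient.mk (Ideal.span {1 - e})) (fun r => rfl) hdT

end Hens

end Groth.Agent.Lib.Helper6.QIso
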