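import Mathlib
import Groth.Prelude.Def_SGA3b
import Groth.Agent.Lib.Helper6.QIso.QI15
import Groth.Agent.Lib.Helper6.Lift.DiagLift
import Groth.Agent.Lib.Helper7.Hensel.IdemLift
import Groth.Agent.Lib.Helper7.Hensel.Local

/-!
# Quasi-isotriviality, part 16: rigidity and lifting of group-like elements of diagonalisable
Hopf algebras along a reduction map with kernel in the Jacobson radical; base change and descent of
bialgebra homomorphisms (helper6)
-/

set_option autoImplicit false
set_option linter.unusedSectionVars false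
set_option linter.unusedVariables false
set_option linter.unusedSimpArgs false
set_option linter.style.haveILetI false
set_option linter.overlappingInstances false
set_option maxHeartbeats 800000
set_option synthInstance.maxHeartbeats 400000

universe u
open TensorProduct SGA3b Coalgebra
open Groth.Agent.Lib.Helper6.MultType Groth.Agent.Lib.Helper6.Isotriv
open Groth.Agent.Lib.Helper6.Lift

namespace Groth.Agent.Lib.Helper6.QIso

section GLRed

variable {S S' : Type u} [CommRing S] [CommRing S'] {M : Type u} [CommGroup M]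

/-- an idempotent of the Jacobson radical is zero -/
lemma idem_eq_zero_of_mem_jacobson {e : S} (he : IsIdempotentElem e)
    (h : e ∈ Ideal.jacobson (⊥ : Ideal S)) : e = 0 := by
  apply Groth.Agent.Helper7.Hensel.idempotent_eq_of_sub_mem_jacobson he IsIdempotentElem.zero
  rw [sub_zero]
  exact h

/-- Rigidity: two group-like elements of `S[M]` with the same image in `S'[M]` are equal, when the
kernel of `S → S'` lies in the Jacobson radical. -/
theorem groupLike_eq_of_map_eq (π : S →+* S')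
    (hJ : ∀ x : S, π x = 0 → x ∈ Ideal.jacobson (⊥ : Ideal S))
    {g g' : MonoidAlgebra S M} (hg : IsGroupLikeElem S g) (hg' : IsGroupLikeElem S g')
    (h : MonoidAlgebra.mapRingHom M π g = MonoidAlgebra.mapRingHom M π g') : g = g' := by
  apply MonoidAlgebra.coeff_injective
  ext m
  apply Groth.Agent.Helper7.Hensel.idempotent_eq_of_sub_mem_jacobson
    (coeff_idem hg m) (coeff_idem hg' m)
  apply hJ
  rw [map_sub, ← MonoidAlgebra.coeff_mapRingHom, ← MonoidAlgebra.coeff_mapRingHom, h, sub_self]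

/-- Lifting: if idempotents lift along `S → S'` and the kernel lies in the Jacobson radical, then
group-like elements of `S'[M]` lift to group-like elements of `S[M]`. -/
theorem exists_groupLike_lift_of_idem (π : S →+* S')
    (hJ : ∀ x : S, π x = 0 → x ∈ Ideal.jacobson (⊥ : Ideal S))
    (hlift : ∀ e0 : S', IsIdempotentElem e0 → ∃ e : S, IsIdempotentElem e ∧ π e = e0)
    {g0 : MonoidAlgebra S' M} (hg0 : IsGroupLikeElem S' g0) :
    ∃ g : MonoidAlgebra S M, IsGroupLikeElem S g ∧ MonoidAlgebra.mapRingHom M π g = g0 := by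
  classical
  obtain ⟨F, hF⟩ : ∃ F : Finset M, F = g0.coeff.support := ⟨_, rfl⟩
  have hch : ∀ i : F, ∃ e : S, IsIdempotentElem e ∧ π e = g0.coeff i.1 :=
    fun i => hlift _ (coeff_idem hg0 i.1)
  choose e he heπ using hch
  have hortho : OrthogonalIdempotents e := by
    refine ⟨he, ?_⟩
    intro i j hij
    apply idem_eq_zero_of_mem_jacobson ((he i).mul (he j))
    apply hJ
    rw [map_mul, heπ, heπ]
    exact coeff_orth hg0 (fun h => hij (Subtype.ext h))
  have hcoi : CompleteOrthogonalIdempotents e := by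
    refine ⟨hortho, ?_⟩
    have hsum : IsIdempotentElem (∑ i, e i) := hortho.isIdempotentElem_sum
    apply Groth.Agent.Helper7.Hensel.idempotent_eq_of_sub_mem_jacobson hsum IsIdempotentElem.one
    apply hJ
    rw [map_sub, map_sum, map_one, sub_eq_zero]
    have h1 := hg0.counit_eq_one
    rw [counit_eq_sum, Finsupp.sum] at h1
    rw [← h1, ← hF, ← Finset.sum_coe_sort F (fun m => g0.coeff m)]
    exact Finset.sum_congr rfl fun i _ => heπ i
  refine ⟨∑ i : F, MonoidAlgebra.single i.1 (e i),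
    isGroupLikeElem_sum_of_COI (fun i : F => i.1) e hcoi, ?_⟩
  rw [map_sum]
  have h2 : ∀ i : F, MonoidAlgebra.mapRingHom M π (MonoidAlgebra.single i.1 (e i)) =
      MonoidAlgebra.single i.1 (g0.coeff i.1) := by
    intro i
    rw [MonoidAlgebra.mapRingHom_single, heπ]
  rw [Finset.sum_congr rfl fun i _ => h2 i,
    Finset.sum_coe_sort F (fun m => MonoidAlgebra.single m (g0.coeff m)), hF]
  exact MonoidAlgebra.sum_coeff_single g0

end GLRed

section ChartGL

variable {R : Type u} [CommRing R] {B : Type u} [CommRing B] [HopfAlgebra R B]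
variable {T : Type u} [CommRing T] [Algebra R T] {M : Type u} [CommGroup M]
variable (eB : T ⊗[R] B ≃ₐc[T] MonoidAlgebra T M)
variable {S₁ : Type u} [CommRing S₁] [Algebra R S₁] [Algebra T S₁] [IsScalarTower R T S₁]
variable {S₂ : Type u} [CommRing S₂] [Algebra R S₂] [Algebra T S₂] [IsScalarTower R T S₂]

include eB in
/-- rigidity of group-like elements of `S₁ ⊗ B` along `S₁ → S₂` -/
theorem groupLike_eq_of_push_eq (ψ : S₁ →ₐ[T] S₂)
    (hJ : ∀ x : S₁, ψ x = 0 → x ∈ Ideal.jacobson (⊥ : Ideal S₁))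
    {g g' : S₁ ⊗[R] B} (hg : IsGroupLikeElem S₁ g) (hg' : IsGroupLikeElem S₁ g')
    (h : push B (ψ.restrictScalars R) g = push B (ψ.restrictScalars R) g') : g = g' := by
  apply bialgEquiv_injective (chartOver eB S₁)
  apply groupLike_eq_of_map_eq (ψ : S₁ →+* S₂) (fun x hx => hJ x hx)
    (hg.map (chartOver eB S₁)) (hg'.map (chartOver eB S₁))
  rw [← chartOver_push, ← chartOver_push, h]

include eB in
/-- lifting of group-like elements of `S₂ ⊗ B` along `S₁ → S₂` -/
theorem exists_groupLike_push_eq (ψ : S₁ →ₐ[T] S₂)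
    (hJ : ∀ x : S₁, ψ x = 0 → x ∈ Ideal.jacobson (⊥ : Ideal S₁))
    (hlift : ∀ e0 : S₂, IsIdempotentElem e0 → ∃ e : S₁, IsIdempotentElem e ∧ ψ e = e0)
    {g0 : S₂ ⊗[R] B} (hg0 : IsGroupLikeElem S₂ g0) :
    ∃ g : S₁ ⊗[R] B, IsGroupLikeElem S₁ g ∧ push B (ψ.restrictScalars R) g = g0 := by
  obtain ⟨g₀, hg₀, hg₀π⟩ := exists_groupLike_lift_of_idem (M := M) (ψ : S₁ →+* S₂)
    (fun x hx => hJ x hx) (fun e0 he0 => hlift e0 he0) (hg0.map (chartOver eB S₂))
  refine ⟨(chartOver eB S₁).symm g₀, hg₀.map (chartOver eB S₁).symm, ?_⟩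
  apply bialgEquiv_injective (chartOver eB S₂)
  rw [chartOver_push, BialgEquiv.apply_symm_apply, hg₀π]

variable (S₁)

lemma chi_one' : chi eB S₁ (1 : M) = 1 := by
  rw [← chartOver_symm_single, ← MonoidAlgebra.one_def, map_one]

lemma chi_mul' (m m' : M) : chi eB S₁ (m * m') = chi eB S₁ m * chi eB S₁ m' := by
  rw [← chartOver_symm_single, ← chartOver_symm_single, ← chartOver_symm_single, ← map_mul,
    MonoidAlgebra.single_mul_single, mul_one]

/-- induction principle: `S₁ ⊗ B` is spanned by the characters of the chart -/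
lemma chart_induction {P : S₁ ⊗[R] B → Prop} (h0 : P 0) (hadd : ∀ x y, P x → P y → P (x + y))
    (hs : ∀ (m : M) (s : S₁), P (s • chi eB S₁ m)) : ∀ x, P x := by
  intro x
  rw [← BialgEquiv.symm_apply_apply (chartOver eB S₁) x]
  generalize chartOver eB S₁ x = w
  induction w using MonoidAlgebra.induction_linear with
  | zero => rw [map_zero]; exact h0
  | add a b ha hb => rw [map_add]; exact hadd _ _ ha hb
  | single m s => rw [chartOver_symm_single']; exact hs m s

variable {S₁}
variable {C : Type u} [CommRing C] [HopfAlgebra R C] {N : Type u} [CommGroup N]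
variable (eC : T ⊗[R] C ≃ₐc[T] MonoidAlgebra T N)

include eB eC in
/-- rigidity of homomorphisms between groups diagonalised over `T` -/
theorem bialgHom_eq_of_push_eq (ψ : S₁ →ₐ[T] S₂)
    (hJ : ∀ x : S₁, ψ x = 0 → x ∈ Ideal.jacobson (⊥ : Ideal S₁))
    (Ψ₁ Ψ₂ : S₁ ⊗[R] C →ₐc[S₁] S₁ ⊗[R] B)
    (h : ∀ c : C, push B (ψ.restrictScalars R) (Ψ₁ ((1 : S₁) ⊗ₜ[R] c)) =
      push B (ψ.restrictScalars R) (Ψ₂ ((1 : S₁) ⊗ₜ[R] c))) :
    ∀ y, Ψ₁ y = Ψ₂ y := by
  have h1 : ∀ y : S₁ ⊗[R] C, push B (ψ.restrictScalars R) (Ψ₁ y) =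
      push B (ψ.restrictScalars R) (Ψ₂ y) := by
    intro y
    induction y using TensorProduct.induction_on with
    | zero => simp only [map_zero]
    | tmul s c =>
      have hs : (s ⊗ₜ[R] c : S₁ ⊗[R] C) = s • ((1 : S₁) ⊗ₜ[R] c) := by
        rw [TensorProduct.smul_tmul', smul_eq_mul, mul_one]
      rw [hs, map_smul Ψ₁, map_smul Ψ₂, push_smul, push_smul, h c]
    | add y z hy hz => rw [map_add, map_add, map_add, map_add, hy, hz]
  apply chart_induction eC S₁ (P := fun y => Ψ₁ y = Ψ₂ y)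
  · show Ψ₁ 0 = Ψ₂ 0
    rw [map_zero, map_zero]
  · intro x y hx hy
    show Ψ₁ (x + y) = Ψ₂ (x + y)
    rw [map_add, map_add, hx, hy]
  · intro n s
    show Ψ₁ (s • chi eC S₁ n) = Ψ₂ (s • chi eC S₁ n)
    rw [map_smul Ψ₁, map_smul Ψ₂]
    congr 1
    exact groupLike_eq_of_push_eq eB ψ hJ ((chi_groupLike eC S₁ n).map Ψ₁)
      ((chi_groupLike eC S₁ n).map Ψ₂) (h1 _)

end ChartGL

section BcHom

variable {R : Type u} [CommRing R] {B C : Type u} [CommRing B] [CommRing C]
  [Bialgebra R B] [Bialgebra R C]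
variable {R' S : Type u} [CommRing R'] [CommRing S] [Algebra R R'] [Algebra R S]

/-- base change of a homomorphism of bialgebras over `R'` along an arbitrary map `R' → S` of
`R`-algebras -/
theorem exists_bcHom (Φ : R' ⊗[R] C →ₐc[R'] R' ⊗[R] B) (ψ : R' →ₐ[R] S) :
    ∃ Ψ : S ⊗[R] C →ₐc[S] S ⊗[R] B, ∀ x : R' ⊗[R] C, Ψ (push C ψ x) = push B ψ (Φ x) := by
  letI : Algebra R' S := ψ.toRingHom.toAlgebra
  haveI : IsScalarTower R R' S := IsScalarTower.of_algebraMap_eq fun r => (ψ.commutes r).symm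
  refine ⟨((cancelBaseChangeBialgEquiv R R' B S : S ⊗[R'] (R' ⊗[R] B) →ₐc[S] S ⊗[R] B).comp
      (Bialgebra.TensorProduct.map (BialgHom.id S S) Φ)).comp
      ((cancelBaseChangeBialgEquiv R R' C S).symm : S ⊗[R] C →ₐc[S] S ⊗[R'] (R' ⊗[R] C)),
      fun x => ?_⟩
  have h1 : (cancelBaseChangeBialgEquiv R R' C S).symm (push C ψ x) = (1 : S) ⊗ₜ[R'] x := by
    rw [bialgEquiv_symm_apply_eq]
    exact push_eq_cancel C ψ x
  have h2 : Bialgebra.TensorProduct.map (BialgHom.id S S) Φ ((1 : S) ⊗ₜ[R'] x) =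
      (1 : S) ⊗ₜ[R'] Φ x := rfl
  show cancelBaseChangeBialgEquiv R R' B S (Bialgebra.TensorProduct.map (BialgHom.id S S) Φ
    ((cancelBaseChangeBialgEquiv R R' C S).symm (push C ψ x))) = _
  rw [h1, h2]
  exact (push_eq_cancel B ψ (Φ x)).symm

end BcHom

section DescHom

variable {R : Type u} [CommRing R] {B C : Type u} [CommRing B] [CommRing C]
  [Bialgebra R B] [Bialgebra R C]
variable {T : Type u} [CommRing T] [Algebra R T]

lemma one_tmul_algebraMap (X : Type u) [CommRing X] [Algebra R X] (r : R) :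
    ((1 : T) ⊗ₜ[R] (algebraMap R X r) : T ⊗[R] X) =
      algebraMap T (T ⊗[R] X) (algebraMap R T r) := by
  rw [← Algebra.TensorProduct.tmul_one_eq_one_tmul, Algebra.TensorProduct.algebraMap_apply]
  rfl

/-- Faithfully flat descent of homomorphisms of bialgebras: a homomorphism over `T` which maps
`1 ⊗ C` into `1 ⊗ B` comes from a homomorphism over `R`. -/
theorem exists_bialgHom_of_descends [Module.FaithfullyFlat R T] [Module.Flat R B]
    (Φ : T ⊗[R] C →ₐc[T] T ⊗[R] B)
    (h : ∀ c : C, ∃ b : B, Φ ((1 : T) ⊗ₜ[R] c) = (1 : T) ⊗ₜ[R] b) :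
    ∃ φ : C →ₐc[R] B, ∀ c : C, Φ ((1 : T) ⊗ₜ[R] c) = (1 : T) ⊗ₜ[R] φ c := by
  have hinj : Function.Injective (TensorProduct.mk R T B 1) :=
    Module.FaithfullyFlat.tensorProduct_mk_injective (A := R) (B := T) B
  have hinjR : Function.Injective (algebraMap R T) := FaithfulSMul.algebraMap_injective R T
  choose f hf using h
  have f_one : f 1 = 1 := by
    apply hinj
    show (1 : T) ⊗ₜ[R] f 1 = (1 : T) ⊗ₜ[R] (1 : B)
    rw [← hf, ← Algebra.TensorProduct.one_def, map_one, Algebra.TensorProduct.one_def]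
  have f_mul : ∀ c c', f (c * c') = f c * f c' := by
    intro c c'
    apply hinj
    show (1 : T) ⊗ₜ[R] f (c * c') = (1 : T) ⊗ₜ[R] (f c * f c')
    have e1 : ((1 : T) ⊗ₜ[R] (c * c') : T ⊗[R] C) =
        ((1 : T) ⊗ₜ[R] c) * ((1 : T) ⊗ₜ[R] c') := by
      rw [Algebra.TensorProduct.tmul_mul_tmul, mul_one]
    have e2 : ((1 : T) ⊗ₜ[R] (f c * f c') : T ⊗[R] B) =
        ((1 : T) ⊗ₜ[R] f c) * ((1 : T) ⊗ₜ[R] f c') := by
      rw [Algebra.TensorProduct.tmul_mul_tmul, mul_one]
    rw [← hf, e1, map_mul, hf, hf, e2]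
  have f_zero : f 0 = 0 := by
    apply hinj
    show (1 : T) ⊗ₜ[R] f 0 = (1 : T) ⊗ₜ[R] (0 : B)
    rw [← hf, TensorProduct.tmul_zero, map_zero, TensorProduct.tmul_zero]
  have f_add : ∀ c c', f (c + c') = f c + f c' := by
    intro c c'
    apply hinj
    show (1 : T) ⊗ₜ[R] f (c + c') = (1 : T) ⊗ₜ[R] (f c + f c')
    rw [← hf, TensorProduct.tmul_add, map_add, hf, hf, TensorProduct.tmul_add]
  have f_alg : ∀ r : R, f (algebraMap R C r) = algebraMap R B r := by
    intro r
    apply hinj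
    show (1 : T) ⊗ₜ[R] f (algebraMap R C r) = (1 : T) ⊗ₜ[R] (algebraMap R B r)
    rw [← hf, one_tmul_algebraMap C, AlgHomClass.commutes, one_tmul_algebraMap B]
  let φA : C →ₐ[R] B :=
    { toFun := f
      map_one' := f_one
      map_mul' := f_mul
      map_zero' := f_zero
      map_add' := f_add
      commutes' := f_alg }
  have hφA : ∀ c, φA c = f c := fun _ => rfl
  have hcounit : (Bialgebra.counitAlgHom R B).comp φA = Bialgebra.counitAlgHom R C := by
    apply AlgHom.ext
    intro c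
    show counit (R := R) (f c) = counit (R := R) c
    apply hinjR
    rw [← counit_one_tmul R T B (f c), ← hf, CoalgHomClass.counit_comp_apply,
      counit_one_tmul R T C c]
  have key : ∀ z : C ⊗[R] C, T₀ R T B (Algebra.TensorProduct.map φA φA z) =
      TensorProduct.map (Φ : T ⊗[R] C →ₗ[T] T ⊗[R] B) (Φ : T ⊗[R] C →ₗ[T] T ⊗[R] B)
        (T₀ R T C z) := by
    intro z
    induction z using TensorProduct.induction_on with
    | zero => simp only [map_zero]
    | tmul c₁ c₂ =>
      rw [Algebra.TensorProduct.map_tmul, T₀_tmul, T₀_tmul, TensorProduct.map_tmul, hφA, hφA]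
      show _ = Φ ((1 : T) ⊗ₜ[R] c₁) ⊗ₜ[T] Φ ((1 : T) ⊗ₜ[R] c₂)
      rw [hf, hf]
    | add y z hy hz => simp only [map_add, hy, hz]
  have hcomul : (Algebra.TensorProduct.map φA φA).comp (Bialgebra.comulAlgHom R C) =
      (Bialgebra.comulAlgHom R B).comp φA := by
    apply AlgHom.ext
    intro c
    show Algebra.TensorProduct.map φA φA (comul (R := R) c) = comul (R := R) (f c)
    apply T₀_injective T hinjR
    rw [key, ← comul_one_tmul R T C c, CoalgHomClass.map_comp_comul_apply, hf,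
      comul_one_tmul R T B (f c)]
  exact ⟨BialgHom.ofAlgHom φA hcounit hcomul, hf⟩

end DescHom

end Groth.Agent.Lib.Helper6.QIso
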