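import Mathlib
import Groth.Prelude.Def_SGA3b
import Groth.Agent.Lib.Helper6.QIso.QI16

/-!
# Quasi-isotriviality, part 17: over a henselian pair `(R, I)`, reduction modulo `I` is bijective on
homomorphisms between groups which are diagonalised by one finite faithfully flat `R`-algebra;
over a henselian local ring, reduction to the closed fibre is fully faithful on finite groups of
multiplicative type (SGA 3, X 4.5 / 4.6) (helper6)
-/

set_option autoImplicit false
set_option linter.unusedSectionVars false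
set_option linter.unusedVariables false
set_option linter.unusedSimpArgs false
set_option linter.style.haveILetI false
set_option linter.overlappingInstances false
set_option maxHeartbeats 800000
set_option synthInstance.maxHeartbeats 400000

universe u
open TensorProduct SGA3b Coalgebra
open Groth.Agent.Lib.Helper6.MultType Groth.Agent.Lib.Helper6.Isotriv
open Groth.Agent.Helper7.Hensel (Gabber)

namespace Groth.Agent.Lib.Helper6.QIso

section RedHom

variable {R : Type u} [CommRing R] (I : Ideal R)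
variable (T : Type u) [CommRing T] [Algebra R T]
variable (S : Type u) [CommRing S] [Algebra R S] [Algebra T S] [IsScalarTower R T S]

/-- the reduction map `S → S ⊗ R/I` -/
noncomputable def redHom : S →ₐ[T] S ⊗[R] (R ⧸ I) := Algebra.TensorProduct.includeLeft

lemma redHom_apply (x : S) : redHom I T S x = x ⊗ₜ[R] (1 : R ⧸ I) := rfl

lemma redHom_eq_zero_iff (x : S) : redHom I T S x = 0 ↔ x ∈ I.map (algebraMap R S) := by
  have h1 : Algebra.TensorProduct.quotIdealMapEquivTensorQuot S I (Ideal.Quotient.mk _ x) =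
      x ⊗ₜ[R] (1 : R ⧸ I) := rfl
  rw [redHom_apply, ← h1, EmbeddingLike.map_eq_zero_iff, Ideal.Quotient.eq_zero_iff_mem]

lemma redHom_ker_le_jacobson [Algebra.IsIntegral R S] (hjac : I ≤ Ideal.jacobson ⊥) (x : S)
    (hx : redHom I T S x = 0) : x ∈ Ideal.jacobson (⊥ : Ideal S) :=
  Groth.Agent.Helper7.Hensel.map_le_jacobson_of_isIntegral hjac
    ((redHom_eq_zero_iff I T S x).mp hx)

lemma redHom_idem_lift [Algebra.IsIntegral R S] (hG : Gabber R I) (e0 : S ⊗[R] (R ⧸ I))
    (he0 : IsIdempotentElem e0) : ∃ e : S, IsIdempotentElem e ∧ redHom I T S e = e0 := by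
  obtain ⟨e, he, hee⟩ := hG.exists_idempotent_lift
    ((Algebra.TensorProduct.quotIdealMapEquivTensorQuot S I).symm e0)
    (he0.map (Algebra.TensorProduct.quotIdealMapEquivTensorQuot S I).symm)
  refine ⟨e, he, ?_⟩
  have h1 : Algebra.TensorProduct.quotIdealMapEquivTensorQuot S I (Ideal.Quotient.mk _ e) =
      e ⊗ₜ[R] (1 : R ⧸ I) := rfl
  rw [redHom_apply, ← h1, hee, AlgEquiv.apply_symm_apply]

end RedHom

section PushOfId

variable {R : Type u} [CommRing R] (B : Type u) [CommRing B] [Bialgebra R B]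
variable (T : Type u) [CommRing T] [Algebra R T]

lemma push_toAlgHom_self (y : R ⊗[R] B) :
    push B (IsScalarTower.toAlgHom R R T) y = (1 : T) ⊗ₜ[R] (TensorProduct.lid R B y) := by
  induction y using TensorProduct.induction_on with
  | zero => simp
  | tmul r b =>
    rw [push_tmul, TensorProduct.lid_tmul, IsScalarTower.toAlgHom_apply,
      Algebra.algebraMap_eq_smul_one, TensorProduct.smul_tmul]
  | add y z hy hz => rw [map_add, map_add, hy, hz, TensorProduct.tmul_add]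

end PushOfId

section Main

variable {R : Type u} [CommRing R] (I : Ideal R)
variable {B C : Type u} [CommRing B] [CommRing C] [HopfAlgebra R B] [HopfAlgebra R C]
variable {T : Type u} [CommRing T] [Algebra R T] [Module.Finite R T] [Module.FaithfullyFlat R T]
variable {M N : Type u} [CommGroup M] [CommGroup N]
variable (eB : T ⊗[R] B ≃ₐc[T] MonoidAlgebra T M) (eC : T ⊗[R] C ≃ₐc[T] MonoidAlgebra T N)

include eB eC in
/-- Reduction modulo an ideal of the Jacobson radical is injective on homomorphisms between groups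
diagonalised by a finite faithfully flat algebra. -/
theorem hom_eq_of_reduction_eq (hjac : I ≤ Ideal.jacobson ⊥) (φ ψ : C →ₐc[R] B)
    (h : ∀ c : C, (1 : R ⧸ I) ⊗ₜ[R] φ c = (1 : R ⧸ I) ⊗ₜ[R] ψ c) : φ = ψ := by
  have hJ : ∀ x : T, redHom I T T x = 0 → x ∈ Ideal.jacobson (⊥ : Ideal T) :=
    redHom_ker_le_jacobson I T T hjac
  have h0 : ∀ c : C, ((1 : T ⊗[R] (R ⧸ I)) ⊗ₜ[R] φ c : (T ⊗[R] (R ⧸ I)) ⊗[R] B) =
      (1 : T ⊗[R] (R ⧸ I)) ⊗ₜ[R] ψ c := by
    intro c
    have h1 := congrArg (push B (Algebra.TensorProduct.includeRight :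
      (R ⧸ I) →ₐ[R] T ⊗[R] (R ⧸ I))) (h c)
    rw [push_tmul, push_tmul, map_one] at h1
    exact h1
  have key := bialgHom_eq_of_push_eq eB eC (redHom I T T) hJ
    (Bialgebra.TensorProduct.map (BialgHom.id T T) φ)
    (Bialgebra.TensorProduct.map (BialgHom.id T T) ψ) (by
      intro c
      show push B ((redHom I T T).restrictScalars R) ((1 : T) ⊗ₜ[R] φ c) =
        push B ((redHom I T T).restrictScalars R) ((1 : T) ⊗ₜ[R] ψ c)
      rw [push_tmul, push_tmul]
      show (redHom I T T 1) ⊗ₜ[R] φ c = (redHom I T T 1) ⊗ₜ[R] ψ c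
      rw [map_one]
      exact h0 c)
  apply BialgHom.ext
  intro c
  apply Module.FaithfullyFlat.tensorProduct_mk_injective (A := R) (B := T) B
  exact key ((1 : T) ⊗ₜ[R] c)

include eB eC in
/-- Over a henselian pair, every homomorphism between the reductions of two groups diagonalised by
a finite faithfully flat algebra lifts. -/
theorem exists_hom_lift_of_reduction (hG : Gabber R I)
    (φ₀ : ((R ⧸ I) ⊗[R] C) →ₐc[R ⧸ I] ((R ⧸ I) ⊗[R] B)) :
    ∃ φ : C →ₐc[R] B, ∀ c : C, φ₀ ((1 : R ⧸ I) ⊗ₜ[R] c) = (1 : R ⧸ I) ⊗ₜ[R] φ c := by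
  classical
  haveI : Module.Flat R B := flat_of_chart eB
  obtain ⟨π, hπ⟩ : ∃ π : T →ₐ[T] T ⊗[R] (R ⧸ I), π = redHom I T T := ⟨_, rfl⟩
  obtain ⟨π', hπ'⟩ : ∃ π' : T →ₐ[R] T ⊗[R] (R ⧸ I), π' = π.restrictScalars R := ⟨_, rfl⟩
  obtain ⟨ι, hι⟩ : ∃ ι : (R ⧸ I) →ₐ[R] T ⊗[R] (R ⧸ I),
    ι = Algebra.TensorProduct.includeRight := ⟨_, rfl⟩
  have hJ : ∀ x : T, π x = 0 → x ∈ Ideal.jacobson (⊥ : Ideal T) := by
    rw [hπ]
    exact redHom_ker_le_jacobson I T T hG.1
  have hlift : ∀ e0 : T ⊗[R] (R ⧸ I), IsIdempotentElem e0 →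
      ∃ e : T, IsIdempotentElem e ∧ π e = e0 := by
    rw [hπ]
    exact redHom_idem_lift I T T hG
  have hπ1 : ∀ c' : C, push C π' ((1 : T) ⊗ₜ[R] c') = (1 : T ⊗[R] (R ⧸ I)) ⊗ₜ[R] c' := by
    intro c'
    rw [push_tmul, map_one]
  have hι1 : ∀ c' : C, push C ι ((1 : R ⧸ I) ⊗ₜ[R] c') = (1 : T ⊗[R] (R ⧸ I)) ⊗ₜ[R] c' := by
    intro c'
    rw [push_tmul, map_one]
  -- base change of `φ₀` to `T ⊗ R/I`
  obtain ⟨F₀, hF₀⟩ := exists_bcHom φ₀ ι
  -- lifted characters
  have hgex : ∀ n : N, ∃ g : T ⊗[R] B, IsGroupLikeElem T g ∧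
      push B π' g = F₀ (chi eC (T ⊗[R] (R ⧸ I)) n) := by
    intro n
    rw [hπ']
    exact exists_groupLike_push_eq eB π hJ hlift ((chi_groupLike eC (T ⊗[R] (R ⧸ I)) n).map F₀)
  choose g hg hgπ using hgex
  have hgmul : ∀ n n' : N, g (n * n') = g n * g n' := by
    intro n n'
    apply groupLike_eq_of_push_eq eB π hJ (hg _) ((hg n).mul (hg n'))
    rw [← hπ', hgπ, map_mul, hgπ, hgπ, chi_mul', map_mul]
  let γ : N →* GroupLike T (T ⊗[R] B) :=
    MonoidHom.mk' (fun n => ⟨g n, hg n⟩) (fun n n' => GroupLike.val_injective (hgmul n n'))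
  have hγ : ∀ n, (γ n).val = g n := fun _ => rfl
  obtain ⟨Φ, hΦ⟩ : ∃ Φ : T ⊗[R] C →ₐc[T] T ⊗[R] B, Φ = (PsiOf B T γ).comp
    (chartOver eC T : T ⊗[R] C →ₐc[T] MonoidAlgebra T N) := ⟨_, rfl⟩
  have hΦχ : ∀ (n : N) (t : T), Φ (t • chi eC T n) = t • g n := by
    intro n t
    rw [hΦ]
    show PsiOf B T γ (chartOver eC T (t • chi eC T n)) = _
    rw [chartOver_smul_chi, PsiOf_single, hγ]
  -- compatibility with reduction
  have hred : ∀ x : T ⊗[R] C, push B π' (Φ x) = F₀ (push C π' x) := by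
    apply chart_induction eC T (P := fun x => push B π' (Φ x) = F₀ (push C π' x))
    · show push B π' (Φ 0) = F₀ (push C π' 0)
      simp only [map_zero]
    · intro x y hx hy
      show push B π' (Φ (x + y)) = F₀ (push C π' (x + y))
      rw [map_add, map_add, map_add, map_add, hx, hy]
    · intro n t
      show push B π' (Φ (t • chi eC T n)) = F₀ (push C π' (t • chi eC T n))
      rw [hΦχ, push_smul, push_smul, hgπ, map_smul F₀]
      congr 2
      rw [hπ']
      exact (chi_push eC π n).symm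
  -- key compatibility
  have hkey : ∀ (S' : Type u) [CommRing S'] [Algebra R S'] (θ : T →ₐ[R] S')
      (κ : (R ⧸ I) →ₐ[R] S') (c : C),
      push B θ (Φ ((1 : T) ⊗ₜ[R] c)) = push B κ (φ₀ ((1 : R ⧸ I) ⊗ₜ[R] c)) := by
    intro S' _ _ θ κ c
    have e1 : θ = (Algebra.TensorProduct.productMap θ κ).comp π' := by
      apply AlgHom.ext
      intro t
      rw [hπ', hπ]
      show θ t = Algebra.TensorProduct.productMap θ κ (t ⊗ₜ[R] (1 : R ⧸ I))
      rw [Algebra.TensorProduct.productMap_left_apply]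
    have e2 : κ = (Algebra.TensorProduct.productMap θ κ).comp ι := by
      apply AlgHom.ext
      intro x
      rw [hι]
      show κ x = Algebra.TensorProduct.productMap θ κ ((1 : T) ⊗ₜ[R] x)
      rw [Algebra.TensorProduct.productMap_right_apply]
    have h1 : push B θ (Φ ((1 : T) ⊗ₜ[R] c)) = push B (Algebra.TensorProduct.productMap θ κ)
        (push B π' (Φ ((1 : T) ⊗ₜ[R] c))) := by
      rw [← push_comp, ← e1]
    have h2 : push B κ (φ₀ ((1 : R ⧸ I) ⊗ₜ[R] c)) =
        push B (Algebra.TensorProduct.productMap θ κ)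
          (push B ι (φ₀ ((1 : R ⧸ I) ⊗ₜ[R] c))) := by
      rw [← push_comp, ← e2]
    rw [h1, h2, hred, hπ1, ← hι1 c, hF₀]
  -- descent
  obtain ⟨Ψl, hΨl⟩ := exists_bcHom Φ (jl (R := R) R T)
  obtain ⟨Ψr, hΨr⟩ := exists_bcHom Φ (jr (R := R) R T)
  have hJS : ∀ x : T ⊗[R] T, redHom I T (T ⊗[R] T) x = 0 →
      x ∈ Ideal.jacobson (⊥ : Ideal (T ⊗[R] T)) :=
    redHom_ker_le_jacobson I T (T ⊗[R] T) hG.1
  have el : ∀ c : C, Ψl ((1 : T ⊗[R] T) ⊗ₜ[R] c) =
      push B (jl (R := R) R T) (Φ ((1 : T) ⊗ₜ[R] c)) := by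
    intro c
    rw [← hΨl, push_tmul, map_one]
  have er : ∀ c : C, Ψr ((1 : T ⊗[R] T) ⊗ₜ[R] c) =
      push B (jr (R := R) R T) (Φ ((1 : T) ⊗ₜ[R] c)) := by
    intro c
    rw [← hΨr, push_tmul, map_one]
  have hΨ : ∀ y, Ψl y = Ψr y := by
    apply bialgHom_eq_of_push_eq eB eC (redHom I T (T ⊗[R] T)) hJS Ψl Ψr
    intro c
    rw [el, er, ← push_comp, ← push_comp,
      hkey _ (((redHom I T (T ⊗[R] T)).restrictScalars R).comp (jl (R := R) R T))
        Algebra.TensorProduct.includeRight c,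
      hkey _ (((redHom I T (T ⊗[R] T)).restrictScalars R).comp (jr (R := R) R T))
        Algebra.TensorProduct.includeRight c]
  have hdesc : ∀ c : C, ∃ b : B, Φ ((1 : T) ⊗ₜ[R] c) = (1 : T) ⊗ₜ[R] b := by
    intro c
    obtain ⟨y, hy⟩ := exists_of_push_eq B R T (Φ ((1 : T) ⊗ₜ[R] c)) (by rw [← el, ← er, hΨ])
    refine ⟨TensorProduct.lid R B y, ?_⟩
    rw [← hy]
    exact push_toAlgHom_self B T y
  obtain ⟨φ, hφ⟩ := exists_bialgHom_of_descends Φ hdesc
  refine ⟨φ, fun c => ?_⟩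
  have hιinj : Function.Injective ι := by
    rw [hι]
    intro x y hxy
    exact Module.FaithfullyFlat.tensorProduct_mk_injective (A := R) (B := T) (R ⧸ I) hxy
  apply push_injective B ι hιinj
  rw [← hkey _ π' ι c, hφ, push_tmul, push_tmul, map_one, map_one]

end Main

section Common

variable {R : Type u} [CommRing R] {B C : Type u} [CommRing B] [CommRing C]
  [HopfAlgebra R B] [HopfAlgebra R C]

/-- two isotrivial groups are diagonalised by one finite faithfully flat algebra -/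
theorem exists_common_chart (hB : IsIsotrivial R B) (hC : IsIsotrivial R C) :
    ∃ (T : Type u) (_ : CommRing T) (_ : Algebra R T), Module.Finite R T ∧
      Module.FaithfullyFlat R T ∧ IsDiag T (T ⊗[R] B) ∧ IsDiag T (T ⊗[R] C) := by
  obtain ⟨T₁, _, _, _, hf₁, hff₁, hd₁⟩ := hB
  obtain ⟨T₂, _, _, _, hf₂, hff₂, hd₂⟩ := hC
  haveI := hf₁
  haveI := hf₂
  haveI := hff₁
  haveI := hff₂
  refine ⟨T₁ ⊗[R] T₂, inferInstance, inferInstance, inferInstance, ?_, ?_, ?_⟩
  · exact Module.FaithfullyFlat.trans R T₁ (T₁ ⊗[R] T₂)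
  · exact IsDiag.of_tower T₁ (T₁ ⊗[R] T₂) (IsDiag.baseChange (R := T₁) (A := T₁ ⊗[R] B) hd₁ (T₁ ⊗[R] T₂))
  · letI : Algebra T₂ (T₁ ⊗[R] T₂) := Algebra.TensorProduct.rightAlgebra
    haveI : IsScalarTower R T₂ (T₁ ⊗[R] T₂) := Algebra.TensorProduct.right_isScalarTower
    exact IsDiag.of_tower T₂ (T₁ ⊗[R] T₂) (IsDiag.baseChange (R := T₂) (A := T₂ ⊗[R] C) hd₂ (T₁ ⊗[R] T₂))

end Common

/-- **SGA 3, X 4.5 (full faithfulness).** Over a henselian local ring, reduction to the closed fibre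
is bijective on homomorphisms between finite groups of multiplicative type. -/
theorem hom_reduction_bijective_of_henselian (A : Type u) [CommRing A] [HenselianLocalRing A]
    (B : Type u) [CommRing B] [HopfAlgebra A B] [Module.Finite A B] (hG : IsMultType A B)
    (C : Type u) [CommRing C] [HopfAlgebra A C] [Module.Finite A C] (hH : IsMultType A C) :
    (∀ φ ψ : C →ₐc[A] B, (∀ c : C, (1 : IsLocalRing.ResidueField A) ⊗ₜ[A] (φ c) =
        (1 : IsLocalRing.ResidueField A) ⊗ₜ[A] (ψ c)) → φ = ψ) ∧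
    (∀ φ₀ : (IsLocalRing.ResidueField A ⊗[A] C) →ₐc[IsLocalRing.ResidueField A]
        (IsLocalRing.ResidueField A ⊗[A] B),
      ∃ φ : C →ₐc[A] B, ∀ c : C, φ₀ ((1 : IsLocalRing.ResidueField A) ⊗ₜ[A] c) =
        (1 : IsLocalRing.ResidueField A) ⊗ₜ[A] (φ c)) := by
  have hB := isIsotrivial_of_henselian (inferInstance : Algebra.FiniteType A B) hG
  have hC := isIsotrivial_of_henselian (inferInstance : Algebra.FiniteType A C) hH
  obtain ⟨T, _, _, hfin, hff, hdB, hdC⟩ := exists_common_chart hB hC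
  haveI := hfin
  haveI := hff
  obtain ⟨M, _, ⟨eB⟩⟩ := hdB
  obtain ⟨N, _, ⟨eC⟩⟩ := hdC
  have hGab := Groth.Agent.Helper7.Hensel.Gabber.of_henselianLocalRing A
  exact ⟨fun φ ψ h => hom_eq_of_reduction_eq (IsLocalRing.maximalIdeal A) eB eC hGab.1 φ ψ h,
    fun φ₀ => exists_hom_lift_of_reduction (IsLocalRing.maximalIdeal A) eB eC hGab φ₀⟩

end Groth.Agent.Lib.Helper6.QIso
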